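import Cfsg.Agent.Lib.Classical.Unitary.Field

/-!
Owner: helper4 (S5735). An additive subgroup of the field with `q²` elements, `q` even, whose multiples by the
elements of the subfield of order `q` and by some other element form distributive triples is trivial or the field.
-/

set_option autoImplicit false
set_option linter.unusedSectionVars false

namespace CfsgLib.Perm.Binary.Lattice

open CfsgLib.Classical CfsgLib.Classical.Herm

variable {F : Type*} [Field F] [Fintype F] [CharP F 2] {q : ℕ} (hF : Fintype.card F = q ^ 2)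

local notation "𝕂" => fixedSub (powHom hF)

/-- The elements of `E` sent into `E` by `l`. -/
def inter (E : AddSubgroup F) (l : F) : AddSubgroup F := E ⊓ E.comap (AddMonoidHom.mulLeft l)

theorem mem_inter {E : AddSubgroup F} {l x : F} : x ∈ inter E l ↔ x ∈ E ∧ l * x ∈ E := Iff.rfl

theorem card_pos (E : AddSubgroup F) : 0 < Nat.card E := Nat.card_pos

/-- Every element is a sum from the two meets. -/
def SumC (E : AddSubgroup F) : Prop :=
  ∀ l ∈ 𝕂, l ≠ 0 → l ≠ 1 → ∀ v ∈ E, ∃ a ∈ E, ∃ b ∈ E, l * a ∈ E ∧ (1 + l) * b ∈ E ∧ v = l * a + (1 + l) * b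

/-- The two joins meet in `E`. -/
def MeetC (E : AddSubgroup F) : Prop :=
  ∀ l ∈ 𝕂, l ≠ 0 → l ≠ 1 → ∀ a ∈ E, ∀ b ∈ E, ∀ c ∈ E, ∀ d ∈ E,
    a + l⁻¹ * b = c + (1 + l)⁻¹ * d → a + l⁻¹ * b ∈ E

theorem card_mul_eq {G : Type*} [AddCommGroup G] [Finite G] (A B : AddSubgroup G) :
    Nat.card A * Nat.card B = Nat.card ↥(A ⊔ B) * Nat.card ↥(A ⊓ B) := by
  let f : A × B →+ G := A.subtype.coprod B.subtype
  have hr : f.range = A ⊔ B := by
    ext x
    rw [AddMonoidHom.mem_range, AddSubgroup.mem_sup]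
    constructor
    · rintro ⟨⟨a, b⟩, rfl⟩
      exact ⟨a, a.2, b, b.2, rfl⟩
    · rintro ⟨a, ha, b, hb, rfl⟩
      exact ⟨(⟨a, ha⟩, ⟨b, hb⟩), rfl⟩
  have hk : Nat.card f.ker = Nat.card ↥(A ⊓ B) := by
    refine Nat.card_congr
      { toFun := fun p => ⟨(p.1.1 : G), p.1.1.2, ?_⟩
        invFun := fun x => ⟨(⟨x, x.2.1⟩, ⟨-x, B.neg_mem x.2.2⟩), by simp [f, AddMonoidHom.mem_ker]⟩
        left_inv := fun p => ?_
        right_inv := fun x => rfl }
    · have h : (p.1.1 : G) + p.1.2 = 0 := p.2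
      rw [eq_neg_of_add_eq_zero_left h]
      exact B.neg_mem p.1.2.2
    · have h : (p.1.1 : G) + p.1.2 = 0 := p.2
      refine Subtype.ext (Prod.ext rfl (Subtype.ext ?_))
      exact (eq_neg_of_add_eq_zero_right h).symm
  rw [← Nat.card_prod, AddSubgroup.card_eq_card_quotient_mul_card_addSubgroup f.ker, hk,
    Nat.card_congr (QuotientAddGroup.quotientKerEquivRange f).toEquiv, hr]

theorem card_map_mul {l : F} (hl : l ≠ 0) (E : AddSubgroup F) :
    Nat.card ↥(E.map (AddMonoidHom.mulLeft l)) = Nat.card E :=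
  (Nat.card_congr (AddSubgroup.equivMapOfInjective E _ (mul_right_injective₀ hl)).toEquiv).symm

theorem card_inter_inv (E : AddSubgroup F) {l : F} (hl : l ≠ 0) :
    Nat.card ↥(inter E l⁻¹) = Nat.card ↥(inter E l) := by
  refine Nat.card_congr
    { toFun := fun x => ⟨l⁻¹ * x, x.2.2, by
        show l * (l⁻¹ * (x : F)) ∈ E
        rw [mul_inv_cancel_left₀ hl]; exact x.2.1⟩
      invFun := fun x => ⟨l * x, x.2.2, by
        show l⁻¹ * (l * (x : F)) ∈ E
        rw [inv_mul_cancel_left₀ hl]; exact x.2.1⟩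
      left_inv := fun x => Subtype.ext (mul_inv_cancel_left₀ hl _)
      right_inv := fun x => Subtype.ext (inv_mul_cancel_left₀ hl _) }

theorem sumC_bound {E : AddSubgroup F} (h : SumC hF E) {l : F} (hl : l ∈ 𝕂) (h0 : l ≠ 0) (h1 : l ≠ 1) :
    Nat.card E ≤ Nat.card ↥(inter E l) * Nat.card ↥(inter E (1 + l)) := by
  rw [← Nat.card_prod]
  refine Nat.card_le_card_of_surjective
    (fun p : inter E l × inter E (1 + l) => (⟨l * p.1 + (1 + l) * p.2, E.add_mem p.1.2.2 p.2.2.2⟩ : E)) ?_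
  rintro ⟨v, hv⟩
  obtain ⟨a, ha, b, hb, ha', hb', he⟩ := h l hl h0 h1 v hv
  exact ⟨(⟨a, ha, ha'⟩, ⟨b, hb, hb'⟩), Subtype.ext he.symm⟩

theorem meetC_bound {E W : AddSubgroup F} (h : MeetC hF E) (hE : E ≤ W) (hW : ∀ l ∈ 𝕂, ∀ x ∈ W, l * x ∈ W)
    {l : F} (hl : l ∈ 𝕂) (h0 : l ≠ 0) (h1 : l ≠ 1) :
    Nat.card E ^ 3 ≤ Nat.card W * (Nat.card ↥(inter E l) * Nat.card ↥(inter E (1 + l))) := by
  have h10 : 1 + l ≠ 0 := fun e => h1 (CharTwo.add_eq_zero.1 e).symm
  have hl1 : 1 + l ∈ 𝕂 := add_mem (one_mem _) hl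
  set X := E ⊔ E.map (AddMonoidHom.mulLeft l⁻¹)
  set Y := E ⊔ E.map (AddMonoidHom.mulLeft (1 + l)⁻¹)
  have key : ∀ m : F, m ≠ 0 → Nat.card E * Nat.card E =
      Nat.card ↥(E ⊔ E.map (AddMonoidHom.mulLeft m⁻¹)) * Nat.card ↥(inter E m) := by
    intro m hm
    nth_rw 2 [← card_map_mul (inv_ne_zero hm) E]
    have eI : E ⊓ E.map (AddMonoidHom.mulLeft m⁻¹) = (inter E m⁻¹).map (AddMonoidHom.mulLeft m⁻¹) := by
      ext x
      constructor
      · rintro ⟨hx, y, hy, rfl⟩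
        exact ⟨y, ⟨hy, hx⟩, rfl⟩
      · rintro ⟨y, ⟨hy, hy'⟩, rfl⟩
        exact ⟨hy', y, hy, rfl⟩
    rw [card_mul_eq, eI, card_map_mul (inv_ne_zero hm), card_inter_inv E hm]
  have hXW : ∀ m ∈ 𝕂, E ⊔ E.map (AddMonoidHom.mulLeft m) ≤ W := fun m hm =>
    sup_le hE (by rintro _ ⟨x, hx, rfl⟩; exact hW m hm x (hE hx))
  have hinf : X ⊓ Y ≤ E := by
    rintro x ⟨hx, hy⟩
    obtain ⟨a, ha, _, ⟨b, hb, rfl⟩, hab⟩ := AddSubgroup.mem_sup.1 hx
    obtain ⟨c, hc, _, ⟨d, hd, rfl⟩, hcd⟩ := AddSubgroup.mem_sup.1 hy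
    simp only [AddMonoidHom.coe_mulLeft] at hab hcd
    rw [← hab]
    exact h l hl h0 h1 a ha b hb c hc d hd (hab.trans hcd.symm)
  have hXY : Nat.card X * Nat.card Y ≤ Nat.card W * Nat.card E := by
    rw [card_mul_eq]
    exact Nat.mul_le_mul (AddSubgroup.card_le_of_le (sup_le (hXW _ (inv_mem hl)) (hXW _ (inv_mem hl1))))
      (AddSubgroup.card_le_of_le hinf)
  have e1 := key l h0
  have e2 := key (1 + l) h10
  refine Nat.le_of_mul_le_mul_left ?_ (card_pos E)
  calc Nat.card E * Nat.card E ^ 3 = (Nat.card E * Nat.card E) * (Nat.card E * Nat.card E) := by ring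
    _ = (Nat.card X * Nat.card Y) * (Nat.card ↥(inter E l) * Nat.card ↥(inter E (1 + l))) := by
      calc _ = (Nat.card X * Nat.card ↥(inter E l)) * (Nat.card Y * Nat.card ↥(inter E (1 + l))) := by
            rw [← e1, ← e2]
        _ = _ := by ring
    _ ≤ (Nat.card W * Nat.card E) * (Nat.card ↥(inter E l) * Nat.card ↥(inter E (1 + l))) :=
      Nat.mul_le_mul_right _ hXY
    _ = _ := by ring

/-- The double count. -/
theorem count {E : AddSubgroup F} {R : ℕ} (hR : ∀ v ∈ E, v ≠ 0 → Nat.card {c : 𝕂 // (c : F) * v ∈ E} ≤ R)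
    {x : ℝ} (hx : 0 ≤ x)
    (hb : ∀ l ∈ 𝕂, l ≠ 0 → l ≠ 1 → x ≤ (Nat.card ↥(inter E l) : ℝ) * Nat.card ↥(inter E (1 + l))) :
    ((q : ℝ) - 2) * (Real.sqrt x - 1) ≤ ((Nat.card E : ℝ) - 1) * ((R : ℝ) - 2) := by
  classical
  haveI := Fintype.ofFinite 𝕂
  haveI := Fintype.ofFinite E
  set Λ : Finset 𝕂 := Finset.univ.filter fun l => l ≠ 0 ∧ l ≠ 1 with hΛ
  have hΛc : Λ.card + 2 = q := by
    have e : Λ = Finset.univ \ {0, 1} := by
      ext l; simp [hΛ, Finset.mem_sdiff]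
    rw [e, ← Finset.card_pair (zero_ne_one (α := 𝕂)),
      Finset.card_sdiff_add_card_eq_card (Finset.subset_univ _), Finset.card_univ, ← Nat.card_eq_fintype_card]
    exact card_fixed_powHom hF
  have hN : ∀ l : 𝕂, Nat.card ↥(inter E (l : F)) = (Finset.univ.filter fun v : E => (l : F) * v ∈ E).card :=
    fun l => by
      rw [← Fintype.card_subtype, ← Nat.card_eq_fintype_card]
      exact Nat.card_congr
        { toFun := fun y => ⟨⟨y, y.2.1⟩, y.2.2⟩
          invFun := fun y => ⟨y.1.1, y.1.2, y.2⟩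
          left_inv := fun y => rfl
          right_inv := fun y => rfl }
  have hsum : ∑ l ∈ Λ, (Nat.card ↥(inter E (l : F)) : ℝ) ≤
      Λ.card + ((Nat.card E : ℝ) - 1) * ((R : ℝ) - 2) := by
    have e1 : ∑ l ∈ Λ, (Nat.card ↥(inter E (l : F)) : ℝ) =
        ∑ v : E, ((Λ.filter fun l : 𝕂 => (l : F) * v ∈ E).card : ℝ) := by
      simp only [hN, Finset.card_filter, Nat.cast_sum]
      rw [Finset.sum_comm]
    rw [e1, ← Finset.add_sum_erase _ _ (Finset.mem_univ (0 : E))]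
    refine add_le_add (by exact_mod_cast Finset.card_filter_le _ _) ?_
    have e2 : ((Finset.univ.erase (0 : E)).card : ℝ) = (Nat.card E : ℝ) - 1 := by
      rw [Finset.cast_card_erase_of_mem (Finset.mem_univ _), Finset.card_univ, Nat.card_eq_fintype_card]
    rw [← e2, ← nsmul_eq_mul]
    refine Finset.sum_le_card_nsmul _ _ _ fun v hv => ?_
    have hv0 : (v : F) ≠ 0 := fun e => Finset.ne_of_mem_erase hv (Subtype.ext e)
    have h := hR v v.2 hv0
    rw [Nat.card_eq_fintype_card, Fintype.card_subtype] at h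
    have hsub : (Λ.filter fun l : 𝕂 => (l : F) * v ∈ E).card + 2 ≤
        (Finset.univ.filter fun c : 𝕂 => (c : F) * v ∈ E).card := by
      rw [← Finset.card_pair (zero_ne_one (α := 𝕂)), ← Finset.card_union_of_disjoint]
      · refine Finset.card_le_card (Finset.union_subset (Finset.filter_subset_filter _ (Finset.subset_univ _)) ?_)
        intro c hc
        simp only [Finset.mem_insert, Finset.mem_singleton] at hc
        refine Finset.mem_filter.2 ⟨Finset.mem_univ _, ?_⟩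
        rcases hc with rfl | rfl
        · simp
        · simp
      · rw [Finset.disjoint_left]
        intro c hc hc'
        simp only [Finset.mem_filter, hΛ, Finset.mem_univ, true_and] at hc
        simp only [Finset.mem_insert, Finset.mem_singleton] at hc'
        tauto
    have := hsub.trans h
    have : (((Λ.filter fun l : 𝕂 => (l : F) * v ∈ E).card + 2 : ℕ) : ℝ) ≤ (R : ℝ) := by exact_mod_cast this
    push_cast at this
    linarith
  have hswap : ∑ l ∈ Λ, (Nat.card ↥(inter E (1 + (l : F))) : ℝ) = ∑ l ∈ Λ, (Nat.card ↥(inter E (l : F)) : ℝ) := by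
    refine Finset.sum_nbij' (fun l => 1 + l) (fun l => 1 + l) ?_ ?_ ?_ ?_ ?_
    all_goals intro l hl
    all_goals first
      | rfl
      | (ext; push_cast; rw [← add_assoc, CharTwo.add_self_eq_zero, zero_add])
      | (simp only [hΛ, Finset.coe_filter, Finset.mem_univ, true_and, Set.mem_setOf_eq, Finset.mem_filter] at hl ⊢
         refine ⟨fun e => hl.2 ?_, fun e => hl.1 (add_eq_left.1 e)⟩
         apply Subtype.ext
         have := congrArg Subtype.val e
         push_cast at this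
         exact (CharTwo.add_eq_zero.1 this).symm)
  have hlow : ∑ _l ∈ Λ, (2 * Real.sqrt x) ≤
      ∑ l ∈ Λ, ((Nat.card ↥(inter E (l : F)) : ℝ) + Nat.card ↥(inter E (1 + (l : F)))) := by
    refine Finset.sum_le_sum fun l hl => ?_
    simp only [hΛ, Finset.mem_filter, Finset.mem_univ, true_and] at hl
    have h := hb l l.2 (fun e => hl.1 (Subtype.ext e)) (fun e => hl.2 (Subtype.ext e))
    set A : ℝ := (Nat.card ↥(inter E (l : F)) : ℝ)
    set B : ℝ := (Nat.card ↥(inter E (1 + (l : F))) : ℝ)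
    have hA : 0 ≤ A := Nat.cast_nonneg _
    have hB : 0 ≤ B := Nat.cast_nonneg _
    have hs := Real.sq_sqrt hx
    nlinarith [sq_nonneg (A - B), Real.sqrt_nonneg x]
  rw [Finset.sum_add_distrib, hswap, Finset.sum_const, nsmul_eq_mul] at hlow
  have hq2 : (Λ.card : ℝ) = (q : ℝ) - 2 := by
    rw [eq_sub_iff_add_eq]; exact_mod_cast hΛc
  rw [hq2] at hlow hsum
  linarith

theorem card_scalars_le {E : AddSubgroup F} {v : F} (hv : v ≠ 0) :
    Nat.card {c : 𝕂 // (c : F) * v ∈ E} ≤ Nat.card E :=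
  Nat.card_le_card_of_injective (fun c => (⟨_, c.2⟩ : E)) fun c d e =>
    Subtype.ext (Subtype.ext (mul_right_cancel₀ hv (congrArg Subtype.val e)))

theorem sumC_ineq {E : AddSubgroup F} (h : SumC hF E) (h2 : 2 ≤ Nat.card E) {R : ℕ}
    (hR : ∀ v ∈ E, v ≠ 0 → Nat.card {c : 𝕂 // (c : F) * v ∈ E} ≤ R) :
    (q : ℝ) - 2 ≤ (Real.sqrt (Nat.card E) + 1) * ((R : ℝ) - 2) := by
  have := count hF hR (x := (Nat.card E : ℝ)) (Nat.cast_nonneg _)
    fun l hl h0 h1 => by exact_mod_cast sumC_bound hF h hl h0 h1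
  have he : (2 : ℝ) ≤ Nat.card E := by exact_mod_cast h2
  have hu : 1 < Real.sqrt (Nat.card E) := by
    rw [Real.lt_sqrt zero_le_one]; linarith
  have hsq : ((Nat.card E : ℝ) - 1) = (Real.sqrt (Nat.card E) - 1) * (Real.sqrt (Nat.card E) + 1) := by
    have := Real.sq_sqrt (Nat.cast_nonneg (α := ℝ) (Nat.card E))
    linarith [this, sq (Real.sqrt (Nat.card E))]
  rw [hsq, mul_comm ((q : ℝ) - 2), mul_assoc] at this
  exact le_of_mul_le_mul_left this (by linarith)

/-- A small subgroup of a line has no sum property. -/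
theorem small_false {E : AddSubgroup F} (h : SumC hF E) (h2 : 2 ≤ Nat.card E)
    (hle : Nat.card E * Nat.card E ≤ q) : False := by
  have := sumC_ineq hF h h2 fun v _ hv => card_scalars_le hF hv
  set u := Real.sqrt (Nat.card E)
  have hu0 : 0 ≤ u := Real.sqrt_nonneg _
  have hu : u ^ 2 = (Nat.card E : ℝ) := Real.sq_sqrt (Nat.cast_nonneg _)
  have he : (2 : ℝ) ≤ Nat.card E := by exact_mod_cast h2
  have hle' : (Nat.card E : ℝ) * Nat.card E ≤ q := by exact_mod_cast hle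
  rw [← hu] at he hle' this
  nlinarith [sq_nonneg (u - 1), sq_nonneg u]

theorem meetC_ineq {E W : AddSubgroup F} (h : MeetC hF E) (hE : E ≤ W) (hW : ∀ l ∈ 𝕂, ∀ x ∈ W, l * x ∈ W)
    {R : ℕ} (hR : ∀ v ∈ E, v ≠ 0 → Nat.card {c : 𝕂 // (c : F) * v ∈ E} ≤ R) :
    ((q : ℝ) - 2) * (Real.sqrt ((Nat.card E : ℝ) ^ 3 / Nat.card W) - 1) ≤
      ((Nat.card E : ℝ) - 1) * ((R : ℝ) - 2) := by
  refine count hF hR (by positivity) fun l hl h0 h1 => ?_
  rw [div_le_iff₀ (by exact_mod_cast card_pos W), mul_comm]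
  exact_mod_cast meetC_bound hF h hE hW hl h0 h1

/-- A large proper subgroup of a line has no meet property. -/
theorem large_false {E W : AddSubgroup F} (h : MeetC hF E) (hE : E ≤ W) (hW : ∀ l ∈ 𝕂, ∀ x ∈ W, l * x ∈ W)
    (hWc : Nat.card W = q) (hle : q ≤ Nat.card E * Nat.card E) (hlt : Nat.card E < q) : False := by
  have hineq := meetC_ineq hF h hE hW fun v _ hv => card_scalars_le hF hv
  rw [hWc] at hineq
  set r : ℝ := (Nat.card E : ℝ)
  have hr0 : 0 < r := by simp only [r]; exact_mod_cast card_pos E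
  have hlt' : r < q := by simp only [r]; exact_mod_cast hlt
  have hle' : (q : ℝ) ≤ r * r := by simp only [r]; exact_mod_cast hle
  obtain ⟨s, hs1, hq⟩ : ∃ s : ℝ, 1 < s ∧ (q : ℝ) = s ^ 2 * r := by
    refine ⟨Real.sqrt (q / r), ?_, ?_⟩
    · rw [Real.lt_sqrt zero_le_one, one_pow, one_lt_div hr0]; exact hlt'
    · rw [Real.sq_sqrt (by positivity), div_mul_cancel₀ _ hr0.ne']
  have hsr : s ^ 2 ≤ r := le_of_mul_le_mul_right (hq ▸ hle') hr0
  have hroot : Real.sqrt (r ^ 3 / q) = r / s := by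
    rw [Real.sqrt_eq_iff_eq_sq (by positivity) (by positivity), hq]
    field_simp
  rw [hroot, hq] at hineq
  have h' : (s ^ 2 * r - 2) * (r - s) ≤ s * ((r - 1) * (r - 2)) := by
    have := mul_le_mul_of_nonneg_left hineq (show (0 : ℝ) ≤ s by linarith)
    calc (s ^ 2 * r - 2) * (r - s) = s * ((s ^ 2 * r - 2) * (r / s - 1)) := by field_simp
      _ ≤ _ := this
  have hp : 0 < s ^ 3 - s ^ 2 - s + 2 := by nlinarith [sq_nonneg (s - 1)]
  nlinarith [mul_pos (sub_pos.2 hs1) hp, mul_nonneg (mul_nonneg hr0.le (sub_nonneg.2 hsr))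
    (mul_nonneg (show (0:ℝ) ≤ s by linarith) (sub_nonneg.2 hs1.le))]

/-- The line of `v`. -/
noncomputable def line (v : F) : AddSubgroup F := (𝕂).toAddSubgroup.map (AddMonoidHom.mulRight v)

theorem mem_line {v x : F} : x ∈ line hF v ↔ ∃ c ∈ 𝕂, c * v = x := Iff.rfl

theorem card_line {v : F} (hv : v ≠ 0) : Nat.card ↥(line hF v) = q := by
  refine Eq.trans ?_ (card_fixed_powHom hF)
  exact (Nat.card_congr (AddSubgroup.equivMapOfInjective _ _ (mul_left_injective₀ hv)).toEquiv).symm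

theorem line_smul {v l : F} (hl : l ∈ 𝕂) {x : F} (hx : x ∈ line hF v) : l * x ∈ line hF v := by
  obtain ⟨c, hc, rfl⟩ := hx
  exact ⟨l * c, (mul_mem hl hc : l * c ∈ 𝕂), mul_assoc l c v⟩

/-- The projection along the line of `v`. -/
noncomputable def proj (v : F) : F →+ F :=
  (AddMonoidHom.id F + (powHom hF).toAddMonoidHom).comp (AddMonoidHom.mulRight v⁻¹)

theorem proj_apply (v x : F) : proj hF v x = x * v⁻¹ + powHom hF (x * v⁻¹) := rfl

theorem proj_smul (v : F) {l : F} (hl : l ∈ 𝕂) (x : F) : proj hF v (l * x) = l * proj hF v x := by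
  rw [proj_apply, proj_apply, mul_assoc, map_mul, show powHom hF l = l from hl, mul_add]

theorem proj_mem (v x : F) : proj hF v x ∈ 𝕂 := by
  rw [proj_apply]; exact (powHom_isInvol hF).trace_mem _

theorem proj_eq_zero {v : F} (hv : v ≠ 0) {x : F} : proj hF v x = 0 ↔ x ∈ line hF v := by
  rw [proj_apply, CharTwo.add_eq_zero, mem_line]
  constructor
  · intro h
    exact ⟨x * v⁻¹, h.symm, by rw [mul_assoc, inv_mul_cancel₀ hv, mul_one]⟩
  · rintro ⟨c, hc, rfl⟩
    rw [mul_assoc, mul_inv_cancel₀ hv, mul_one]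
    exact (show powHom hF c = c from hc).symm

theorem card_proj {v : F} (hv : v ≠ 0) (E : AddSubgroup F) :
    Nat.card ↥(E.map (proj hF v)) * Nat.card ↥(E ⊓ line hF v) = Nat.card E := by
  let f : E →+ F := (proj hF v).comp E.subtype
  have hr : f.range = E.map (proj hF v) := by
    rw [AddMonoidHom.range_eq_map, ← AddSubgroup.map_map, ← AddMonoidHom.range_eq_map, AddSubgroup.range_subtype]
  have hk : Nat.card f.ker = Nat.card ↥(E ⊓ line hF v) := Nat.card_congr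
    { toFun := fun x => ⟨x.1, x.1.2, (proj_eq_zero hF hv).1 x.2⟩
      invFun := fun x => ⟨⟨x.1, x.2.1⟩, (proj_eq_zero hF hv).2 x.2.2⟩
      left_inv := fun x => rfl
      right_inv := fun x => rfl }
  rw [AddSubgroup.card_eq_card_quotient_mul_card_addSubgroup f.ker, hk,
    Nat.card_congr (QuotientAddGroup.quotientKerEquivRange f).toEquiv, hr]

theorem sumC_map {E : AddSubgroup F} (h : SumC hF E) (v : F) : SumC hF (E.map (proj hF v)) := by
  rintro l hl h0 h1 _ ⟨x, hx, rfl⟩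
  obtain ⟨a, ha, b, hb, ha', hb', rfl⟩ := h l hl h0 h1 x hx
  refine ⟨_, AddSubgroup.mem_map_of_mem _ ha, _, AddSubgroup.mem_map_of_mem _ hb, ?_, ?_, ?_⟩
  · rw [← proj_smul hF v hl]; exact AddSubgroup.mem_map_of_mem _ ha'
  · rw [← proj_smul hF v (add_mem (one_mem _) hl)]; exact AddSubgroup.mem_map_of_mem _ hb'
  · rw [map_add, proj_smul hF v hl, proj_smul hF v (add_mem (one_mem _) hl)]

theorem meetC_map {E : AddSubgroup F} (h : MeetC hF E) {v : F} (hv : v ≠ 0) (hle : line hF v ≤ E) :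
    MeetC hF (E.map (proj hF v)) := by
  rintro l hl h0 h1 _ ⟨a, ha, rfl⟩ _ ⟨b, hb, rfl⟩ _ ⟨c, hc, rfl⟩ _ ⟨d, hd, rfl⟩ e
  have hli : l⁻¹ ∈ 𝕂 := inv_mem hl
  have hl1i : (1 + l)⁻¹ ∈ 𝕂 := inv_mem (add_mem (one_mem _) hl)
  rw [← proj_smul hF v hli, ← proj_smul hF v hl1i, ← map_add, ← map_add] at e
  rw [← proj_smul hF v hli, ← map_add]
  refine AddSubgroup.mem_map_of_mem _ ?_
  set k := (a + l⁻¹ * b) + (c + (1 + l)⁻¹ * d) with hk
  have hkE : k ∈ E := hle ((proj_eq_zero hF hv).1 (by rw [hk, map_add, e, CharTwo.add_self_eq_zero]))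
  refine h l hl h0 h1 a ha b hb (k + c) (E.add_mem hkE hc) d hd ?_
  rw [add_assoc, hk, add_assoc, CharTwo.add_self_eq_zero, add_zero]

theorem meetC_line {E : AddSubgroup F} (h : MeetC hF E) (v : F) : MeetC hF (E ⊓ line hF v) := by
  intro l hl h0 h1 a ha b hb c hc d hd e
  exact ⟨h l hl h0 h1 a ha.1 b hb.1 c hc.1 d hd.1 e,
    add_mem ha.2 (line_smul hF (inv_mem hl) hb.2)⟩

theorem card_scalars_eq {E : AddSubgroup F} {v : F} (hv : v ≠ 0) :
    Nat.card {c : 𝕂 // (c : F) * v ∈ E} = Nat.card ↥(E ⊓ line hF v) := by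
  refine Nat.card_eq_of_bijective (fun c => ⟨_, c.2, ⟨c.1, c.1.2, rfl⟩⟩) ⟨fun c d e => ?_, fun x => ?_⟩
  · exact Subtype.ext (Subtype.ext (mul_right_cancel₀ hv (congrArg Subtype.val e)))
  · obtain ⟨x, hx, c, hc, rfl⟩ := x
    exact ⟨⟨⟨c, hc⟩, hx⟩, rfl⟩

/-- The subgroup is trivial, the field or a line. -/
theorem eq_line {E : AddSubgroup F} (hS : SumC hF E) (hM : MeetC hF E) (hb : E ≠ ⊥) (ht : E ≠ ⊤) :
    ∃ v : F, v ≠ 0 ∧ E = line hF v := by
  classical
  have hq : 2 ≤ q := two_le_of_card_sq hF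
  have htop : Nat.card E < q ^ 2 := by
    refine lt_of_le_of_ne ?_ fun e => ht (AddSubgroup.eq_top_of_card_eq E ?_)
    · rw [← hF, ← Nat.card_eq_fintype_card]; exact Nat.card_le_card_of_injective _ Subtype.val_injective
    · rw [e, ← hF, Nat.card_eq_fintype_card]
  -- the line with the largest meet
  obtain ⟨v₁, hv₁, hv₁0⟩ : ∃ v ∈ E, v ≠ 0 := by
    by_contra h
    push Not at h
    exact hb ((AddSubgroup.eq_bot_iff_forall E).2 h)
  obtain ⟨v, hv, hmax⟩ := Finset.exists_max_image (Finset.univ.filter fun v : F => v ∈ E ∧ v ≠ 0)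
    (fun v => Nat.card ↥(E ⊓ line hF v)) ⟨v₁, by simp [hv₁, hv₁0]⟩
  simp only [Finset.mem_filter, Finset.mem_univ, true_and] at hv hmax
  obtain ⟨hvE, hv0⟩ := hv
  set R := Nat.card ↥(E ⊓ line hF v) with hRdef
  have hR : ∀ w ∈ E, w ≠ 0 → Nat.card {c : 𝕂 // (c : F) * w ∈ E} ≤ R := fun w hw hw0 => by
    rw [card_scalars_eq hF hw0]; exact hmax w ⟨hw, hw0⟩
  have hR2 : 2 ≤ R := by
    refine Finite.one_lt_card_iff_nontrivial.2 ⟨⟨v, hvE, 1, (one_mem _ : (1 : F) ∈ 𝕂), one_mul v⟩, 0, fun e => hv0 ?_⟩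
    exact congrArg Subtype.val e
  have hRq : R ≤ q := (AddSubgroup.card_le_of_le inf_le_right).trans (card_line hF hv0).le
  set Ē := E.map (proj hF v)
  have hcard : Nat.card Ē * R = Nat.card E := card_proj hF hv0 E
  have hĒ : Ē ≤ (𝕂).toAddSubgroup := by rintro _ ⟨x, -, rfl⟩; exact proj_mem hF v x
  have hKc : Nat.card (𝕂).toAddSubgroup = q := card_fixed_powHom hF
  have hKs : ∀ l ∈ 𝕂, ∀ x ∈ (𝕂).toAddSubgroup, l * x ∈ (𝕂).toAddSubgroup := fun l hl x hx => (mul_mem hl (show x ∈ 𝕂 from hx) : l * x ∈ 𝕂)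
  have hone : 2 ≤ Nat.card Ē → Nat.card E < q * q → q < Nat.card Ē * Nat.card Ē := fun h _ => by
    by_contra hle
    exact small_false hF (sumC_map hF hS v) h (not_lt.1 hle)
  rcases hRq.eq_or_lt with hRe | hRlt
  · refine ⟨v, hv0, ?_⟩
    have hle : line hF v ≤ E := by
      have : E ⊓ line hF v = line hF v :=
        AddSubgroup.eq_of_le_of_card_ge inf_le_right (by rw [card_line hF hv0]; exact hRe.ge)
      exact this ▸ inf_le_left
    refine (AddSubgroup.eq_of_le_of_card_ge hle ?_).symm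
    rw [card_line hF hv0, ← hcard, hRe]
    refine le_of_eq_of_le (congrArg (· * q) ?_) (one_mul q).le
    by_contra h1
    have h2 : 2 ≤ Nat.card Ē := by have := card_pos Ē; omega
    have hbig := hone h2 (by rw [← pow_two]; exact htop)
    refine large_false hF (meetC_map hF hM hv0 hle) hĒ hKs hKc hbig.le ?_
    by_contra hge
    have h3 := Nat.mul_le_mul_right q (not_lt.1 hge)
    rw [pow_two, ← hcard, hRe] at htop
    exact absurd (h3.trans_lt htop) (lt_irrefl _)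
  exfalso
  have hRsq : R * R < q := by
    by_contra h
    exact large_false hF (meetC_line hF hM v) inf_le_right (fun l hl x hx => line_smul hF hl hx)
      (card_line hF hv0) (not_lt.1 h) hRlt
  have hf1 : 2 ≤ Nat.card Ē := by
    by_contra h1
    have h1' : Nat.card Ē = 1 := by have := card_pos Ē; omega
    rw [h1', one_mul] at hcard
    exact small_false hF hS (hcard ▸ hR2) (hcard ▸ hRsq.le)
  have hbig := hone hf1 (by rw [← pow_two]; exact htop)
  have hfR : R < Nat.card Ē := by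
    by_contra h
    exact absurd (hbig.trans_le (Nat.mul_le_mul (not_lt.1 h) (not_lt.1 h))) (not_lt.2 hRsq.le)
  have heR : R * R < Nat.card E := by
    rw [← hcard]; exact Nat.mul_lt_mul_of_pos_right hfR (by omega)
  -- the real inequalities
  have h2e : 2 ≤ Nat.card E := by rw [← hcard]; nlinarith
  have i1 := sumC_ineq hF hS h2e hR
  have i2 := meetC_ineq hF hM (W := ⊤) le_top (fun _ _ _ _ => AddSubgroup.mem_top _) hR
  rw [AddSubgroup.card_top, Nat.card_eq_fintype_card (α := F), hF, Nat.cast_pow] at i2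
  set e : ℝ := (Nat.card E : ℝ)
  set u := Real.sqrt e
  have he0 : (0 : ℝ) ≤ e := Nat.cast_nonneg _
  have hu0 : 0 ≤ u := Real.sqrt_nonneg _
  have hu2 : u ^ 2 = e := Real.sq_sqrt he0
  have hq0 : (0 : ℝ) < q := by exact_mod_cast (by omega : 0 < q)
  have r2 : (2 : ℝ) ≤ R := by exact_mod_cast hR2
  have rq : (R : ℝ) * R < q := by exact_mod_cast hRsq
  have re : (R : ℝ) * R < e := by simp only [e]; exact_mod_cast heR
  have etop : e ≤ (q : ℝ) ^ 2 := by simp only [e]; exact_mod_cast htop.le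
  have huR : (R : ℝ) < u := by nlinarith
  have huq : u ≤ q := by nlinarith
  have hqu : (q : ℝ) < u ^ 2 := by
    by_contra hcon
    have hcon' := not_lt.1 hcon
    set w := Real.sqrt q
    have hw : w ^ 2 = q := Real.sq_sqrt hq0.le
    have hw0 : 0 ≤ w := Real.sqrt_nonneg _
    have huw : u ≤ w := Real.le_sqrt_of_sq_le hcon'
    have hRw : (R : ℝ) < w := by nlinarith
    nlinarith [mul_le_mul (add_le_add_left huw 1) (sub_le_sub_right hRw.le 2) (by linarith) (by linarith)]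
  have hroot : Real.sqrt (e ^ 3 / (q : ℝ) ^ 2) = u ^ 3 / q := by
    rw [Real.sqrt_eq_iff_eq_sq (by positivity) (by positivity), ← hu2]
    field_simp
  rw [hroot, ← hu2] at i2
  have hk : ((R : ℝ) - 1) * q ≤ u * ((q : ℝ) - 2) := by nlinarith
  have i2' : ((q : ℝ) - 2) * (u ^ 3 - q) ≤ q * ((u ^ 2 - 1) * ((R : ℝ) - 2)) := by
    have := mul_le_mul_of_nonneg_left i2 hq0.le
    calc ((q : ℝ) - 2) * (u ^ 3 - q) = q * (((q : ℝ) - 2) * (u ^ 3 / q - 1)) := by field_simp
      _ ≤ _ := this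
  nlinarith [mul_le_mul_of_nonneg_left hk (sq_nonneg u)]

/-- Distributive triples force the trivial cases. -/
theorem distrib_false {E : AddSubgroup F} {ζ : F} (hζ : ζ ^ q ≠ ζ) (hb : E ≠ ⊥) (ht : E ≠ ⊤)
    (hT : ∀ r s t : F, (r ∈ 𝕂 ∨ r = ζ ^ 2) → (s ∈ 𝕂) → (t ∈ 𝕂 ∨ t = ζ) → r ≠ 0 → s ≠ 0 → t ≠ 0 →
      ∀ a ∈ E, ∀ b ∈ E, ∀ c ∈ E, ∀ d ∈ E, s * a + r * b = t * c + r * d →
        ∃ a' ∈ E, ∃ c' ∈ E, ∃ b' ∈ E, s * a' = t * c' ∧ s * a + r * b = s * a' + r * b') : False := by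
  have h1 : (1 : F) ∈ 𝕂 := one_mem _
  have hS : SumC hF E := by
    intro l hl h0 hl1 v hv
    have hl' : 1 + l ∈ 𝕂 := add_mem h1 hl
    have h10 : 1 + l ≠ 0 := fun e => hl1 (CharTwo.add_eq_zero.1 e).symm
    obtain ⟨a', ha', c', hc', b', hb', e, hv'⟩ := hT (1 + l) 1 l (Or.inl hl') h1 (Or.inl hl) h10 one_ne_zero h0
      v hv 0 E.zero_mem v hv v hv (by linear_combination (-(l * v)) * CharTwo.two_eq_zero (R := F))
    rw [one_mul] at e
    simp only [one_mul, mul_zero, add_zero] at hv'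
    refine ⟨c', hc', b', hb', e ▸ ha', ?_, by rw [← e]; exact hv'⟩
    rw [show (1 + l) * b' = v - a' by rw [hv']; ring]
    exact E.sub_mem hv ha'
  have hM : MeetC hF E := by
    intro l hl h0 hl1 a ha b hb c hc d hd e
    have h10 : 1 + l ≠ 0 := fun e => hl1 (CharTwo.add_eq_zero.1 e).symm
    obtain ⟨a', ha', c', hc', b', hb', ee, hx⟩ := hT 1 l⁻¹ (1 + l)⁻¹ (Or.inl h1) (inv_mem hl)
      (Or.inl (inv_mem (add_mem h1 hl))) one_ne_zero (inv_ne_zero h0) (inv_ne_zero h10) b hb a ha d hd c hc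
      (by rw [one_mul, one_mul]; linear_combination e)
    rw [one_mul, one_mul] at hx
    have hmem : l⁻¹ * a' ∈ E := by
      have e2 : l⁻¹ * a' = a' + c' := by
        calc l⁻¹ * a' = (l + (1 + l)) * (l⁻¹ * a') := by
              linear_combination (-(l * (l⁻¹ * a'))) * CharTwo.two_eq_zero (R := F)
          _ = l * (l⁻¹ * a') + (1 + l) * ((1 + l)⁻¹ * c') := by rw [add_mul, ee]
          _ = _ := by rw [mul_inv_cancel_left₀ h0, mul_inv_cancel_left₀ h10]
      exact e2 ▸ E.add_mem ha' hc'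
    rw [add_comm a, hx]
    exact E.add_mem hmem hb'
  obtain ⟨v, hv0, rfl⟩ := eq_line hF hS hM hb ht
  set σ := powHom hF with hσ
  have hσζ : σ ζ ≠ ζ := hζ
  have hζ0 : ζ ≠ 0 := fun e => hσζ (by rw [e, map_zero])
  set N := ζ * σ ζ with hN
  set T := ζ + σ ζ with hTdef
  have hNK : N ∈ 𝕂 := (powHom_isInvol hF).norm_mem ζ
  have hTK : T ∈ 𝕂 := (powHom_isInvol hF).trace_mem ζ
  have hN0 : N ≠ 0 := mul_ne_zero hζ0 ((map_ne_zero σ).2 hζ0)
  have hone : ζ * (T / N) + ζ ^ 2 * (1 / N) = 1 := by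
    rw [mul_div, mul_one_div, ← add_div, div_eq_one_iff_eq hN0, hTdef, hN]
    linear_combination ζ ^ 2 * CharTwo.two_eq_zero (R := F)
  have hline : ∀ c ∈ 𝕂, c * v ∈ line hF v := fun c hc => ⟨c, hc, rfl⟩
  obtain ⟨a', ⟨α, hα, rfl⟩, c', ⟨γ, hγ, rfl⟩, b', ⟨β, hβ, rfl⟩, e1, e2⟩ :=
    hT (ζ ^ 2) 1 ζ (Or.inr rfl) h1 (Or.inr rfl) (pow_ne_zero 2 hζ0) one_ne_zero hζ0
      v ⟨1, h1, one_mul v⟩ 0 (AddSubgroup.zero_mem _) _ (hline _ (div_mem hTK hNK)) _
      (hline _ (div_mem h1 hNK)) (by linear_combination -v * hone)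
  simp only [AddMonoidHom.coe_mulRight, one_mul, mul_zero, add_zero] at e1 e2
  have hγ0 : γ = 0 := by
    by_contra hγ0
    refine hσζ ?_
    have : ζ = α / γ := by
      rw [eq_div_iff hγ0]
      exact (mul_right_cancel₀ hv0 (by rw [e1]; ring)).symm
    rw [this, map_div₀, show σ α = α from hα, show σ γ = γ from hγ]
  rw [hγ0, zero_mul, mul_zero, mul_eq_zero, or_iff_left hv0] at e1
  rw [e1, zero_mul, zero_add, ← mul_assoc] at e2
  have hb2 : ζ ^ 2 * β = 1 := mul_right_cancel₀ hv0 (by rw [← e2, one_mul])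
  have hz2 : σ (ζ ^ 2) = ζ ^ 2 := by
    rw [eq_inv_of_mul_eq_one_left hb2, map_inv₀, show σ β = β from hβ]
  rw [map_pow] at hz2
  exact hσζ (CharTwo.sq_inj.1 hz2)

end CfsgLib.Perm.Binary.Lattice
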