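import Cfsg.Agent.Lib.Lie.Suzuki.BinaryCriteria
import Cfsg.Agent.Lib.Bender.Gen.Structure
import Cfsg.Agent.Lib.Bender.Gen.Final
import Cfsg.Agent.Lib.Signalizer.Embedded

/-!
Owner: helper4 (S5735). Binary coset actions with a point stabiliser of even order in a group with one class of
involutions: commuting involutions have the same fixed points, so there is a strongly embedded subgroup.
-/

set_option autoImplicit false
set_option linter.unusedSectionVars false
set_option linter.style.haveILetI false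

namespace CfsgLib.Perm.Binary

open Subgroup MulAction
open CfsgLib.Lie.Suzuki (Bin)
open CfsgLib.Signalizer (involution_sq involution_inv orderOf_eq_two_of involution_ne_one orderOf_conj)
open scoped Pointwise

universe u

variable {G : Type u} [Group G] {H : Subgroup G}

/-- A map on a set of points which is realised on every pair is realised on the set. -/
theorem bin_extend [Finite G] (hB : Bin H) (S : Set (G ⧸ H)) (τ : G ⧸ H → G ⧸ H)
    (h : ∀ p ∈ S, ∀ r ∈ S, ∃ g : G, g • p = τ p ∧ g • r = τ r) : ∃ g : G, ∀ p ∈ S, g • p = τ p := by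
  rcases S.eq_empty_or_nonempty with rfl | ⟨p₀, hp₀⟩
  · exact ⟨1, fun p hp => absurd hp (Set.notMem_empty p)⟩
  let e : Fin (Nat.card (S ⊕ S)) ≃ S ⊕ S := (Finite.equivFin _).symm
  haveI : Nonempty S := ⟨⟨p₀, hp₀⟩⟩
  have hn : 2 ≤ Nat.card (S ⊕ S) := by
    rw [Nat.card_sum]
    have := Nat.card_pos (α := S)
    omega
  let π : S ⊕ S → S := Sum.elim id id
  obtain ⟨g, hg⟩ := hB _ (fun i => (π (e i) : G ⧸ H)) (fun i => τ (π (e i))) hn
    fun i j _ => h _ (π (e i)).2 _ (π (e j)).2
  refine ⟨g, fun p hp => ?_⟩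
  have := hg (e.symm (Sum.inl ⟨p, hp⟩))
  simpa [π] using this

/-- The fixed points of an element. -/
def Fx (H : Subgroup G) (x : G) : Set (G ⧸ H) := {p | x • p = p}

theorem mem_Fx {x : G} {p : G ⧸ H} : p ∈ Fx H x ↔ x • p = p := Iff.rfl

theorem Fx_conj (g x : G) : Fx H (g * x * g⁻¹) = g • Fx H x := by
  ext p
  rw [Set.mem_smul_set_iff_inv_smul_mem, mem_Fx, mem_Fx, mul_smul, mul_smul, smul_eq_iff_eq_inv_smul]

theorem mk_mem_Fx {x g : G} : (g : G ⧸ H) ∈ Fx H x ↔ g⁻¹ * x * g ∈ H :=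
  CfsgLib.Lie.Suzuki.smul_coset_eq_iff

variable [Finite G]

section OneClass

variable (hone : ∀ s t : G, orderOf s = 2 → orderOf t = 2 → IsConj s t)
include hone

theorem ncard_Fx {x y : G} (hx : orderOf x = 2) (hy : orderOf y = 2) : (Fx H x).ncard = (Fx H y).ncard := by
  obtain ⟨g, rfl⟩ := isConj_iff.1 (hone x y hx hy)
  rw [Fx_conj, Set.ncard_smul_set]

/-- Every involution fixes a point. -/
theorem Fx_nonempty (heven : Even (Nat.card H)) {x : G} (hx : orderOf x = 2) : (Fx H x).Nonempty := by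
  obtain ⟨s, hsH, hs⟩ := CfsgLib.Signalizer.exists_involution_of_even heven
  obtain ⟨g, rfl⟩ := isConj_iff.1 (hone s x hs hx)
  refine ⟨(g : G ⧸ H), mk_mem_Fx.2 ?_⟩
  rwa [show g⁻¹ * (g * s * g⁻¹) * g = s by group]

/-- Commuting involutions have the same fixed points. -/
theorem Fx_eq_of_commute (hB : Bin H) {x y : G} (hx : orderOf x = 2) (hy : orderOf y = 2) (hc : x * y = y * x) :
    Fx H x = Fx H y := by
  classical
  by_cases hxy : x = y
  · rw [hxy]
  obtain ⟨z, hz⟩ : ∃ z, z = x * y := ⟨_, rfl⟩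
  have hz2 : orderOf z = 2 := by
    refine orderOf_eq_two_of (fun e => hxy ?_) ?_
    · rw [← involution_inv hy]
      exact eq_inv_of_mul_eq_one_left (hz ▸ e)
    · rw [hz, mul_assoc, ← mul_assoc y, ← hc, mul_assoc x y, involution_sq hy, mul_one, involution_sq hx]
  have xx := involution_sq hx
  have yy := involution_sq hy
  have hxX : ∀ p ∈ Fx H x, z • p = y • p := fun p hp => by
    rw [hz, hc, mul_smul, mem_Fx.1 hp]
  have hxY : ∀ p ∈ Fx H y, z • p = x • p := fun p hp => by
    rw [hz, mul_smul, mem_Fx.1 hp]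
  have hxW : ∀ p ∈ Fx H z, x • p = y • p := fun p hp => by
    nth_rw 1 [← mem_Fx.1 hp]
    rw [hz, ← mul_smul, ← mul_assoc, xx, one_mul]
  let τ : G ⧸ H → G ⧸ H := fun p => if p ∈ Fx H x then y • p else if p ∈ Fx H y then z • p else x • p
  have tX : ∀ p ∈ Fx H x, τ p = y • p := fun p hp => by simp only [τ, if_pos hp]
  have tY : ∀ p ∈ Fx H y, τ p = z • p := fun p hp => by
    by_cases h : p ∈ Fx H x
    · rw [tX p h, hxX p h]
    · simp only [τ, if_neg h, if_pos hp]
  have tW : ∀ p ∈ Fx H z, τ p = x • p := fun p hp => by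
    by_cases h : p ∈ Fx H x
    · rw [tX p h, hxW p hp]
    by_cases h' : p ∈ Fx H y
    · rw [tY p h', hxY p h']
    · simp only [τ, if_neg h, if_neg h']
  obtain ⟨g, hg⟩ := bin_extend hB (Fx H x ∪ Fx H y ∪ Fx H z) τ (by
    have gz : ∀ p ∈ Fx H x ∪ Fx H y, z • p = τ p := by
      rintro p (hp | hp)
      · rw [tX p hp, hxX p hp]
      · rw [tY p hp]
    have gy : ∀ p ∈ Fx H x ∪ Fx H z, y • p = τ p := by
      rintro p (hp | hp)
      · rw [tX p hp]
      · rw [tW p hp, hxW p hp]
    have gx : ∀ p ∈ Fx H y ∪ Fx H z, x • p = τ p := by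
      rintro p (hp | hp)
      · rw [tY p hp, hxY p hp]
      · rw [tW p hp]
    rintro p ((hp | hp) | hp) r ((hr | hr) | hr)
    · exact ⟨z, gz p (Or.inl hp), gz r (Or.inl hr)⟩
    · exact ⟨z, gz p (Or.inl hp), gz r (Or.inr hr)⟩
    · exact ⟨y, gy p (Or.inl hp), gy r (Or.inr hr)⟩
    · exact ⟨z, gz p (Or.inr hp), gz r (Or.inl hr)⟩
    · exact ⟨z, gz p (Or.inr hp), gz r (Or.inr hr)⟩
    · exact ⟨x, gx p (Or.inl hp), gx r (Or.inr hr)⟩
    · exact ⟨y, gy p (Or.inr hp), gy r (Or.inl hr)⟩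
    · exact ⟨x, gx p (Or.inr hp), gx r (Or.inl hr)⟩
    · exact ⟨y, gy p (Or.inr hp), gy r (Or.inr hr)⟩)
  -- `g'` fixes the first two sets and acts as `x` on the third
  set g' := z * g with hg'
  have g1 : ∀ p ∈ Fx H x ∪ Fx H y, g' • p = p := by
    rintro p (hp | hp)
    · rw [hg', mul_smul, hg p (by simp [hp]), tX p hp, ← mul_smul, hz, mul_assoc, yy, mul_one]
      exact hp
    · rw [hg', mul_smul, hg p (by simp [hp]), tY p hp, ← mul_smul, involution_sq hz2, one_smul]
  have g3 : ∀ p ∈ Fx H z, g' • p = x • p := fun p hp => by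
    rw [hg', mul_smul, hg p (by simp [hp]), tW p hp, ← mul_smul, hz, hc, mul_assoc, xx, mul_one, hxW p hp]
  have hcard := fun (a b : G) (ha : orderOf a = 2) (hb : orderOf b = 2) => ncard_Fx (H := H) hone ha hb
  by_cases hW : Fx H z ⊆ Fx H x
  · have e : Fx H z = Fx H x := Set.eq_of_subset_of_ncard_le hW (hcard x z hx hz2).le
    refine Set.eq_of_subset_of_ncard_le (fun p hp => ?_) (hcard y x hy hx).le
    have h1 := hxW p (e ▸ hp)
    rw [mem_Fx.1 hp] at h1
    exact h1.symm
  obtain ⟨w, hw, hwx⟩ := Set.not_subset.1 hW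
  have hw' : x • w ∈ Fx H z := by
    rw [mem_Fx, ← mul_smul, show z * x = x * z by rw [hz, mul_assoc, ← hc], mul_smul, mem_Fx.1 hw]
  have hsq : (g' ^ 2) • w = w := by
    rw [pow_two, mul_smul, g3 w hw, g3 _ hw', ← mul_smul, xx, one_smul]
  have heven : Even (orderOf g') := by
    rw [← Nat.not_odd_iff_even]
    rintro ⟨k, hk⟩
    refine hwx ?_
    have : (g' ^ 2) ^ (k + 1) = g' := by
      rw [← pow_mul, show 2 * (k + 1) = orderOf g' + 1 by omega, pow_succ, pow_orderOf_eq_one, one_mul]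
    have h1 : g' • w = w := by
      rw [← this]
      exact (stabilizer G w).pow_mem (show g' ^ 2 ∈ stabilizer G w from hsq) (k + 1)
    rwa [g3 w hw] at h1
  obtain ⟨k, hk⟩ := heven
  have hi : orderOf (g' ^ k) = 2 := by
    have hpos := orderOf_pos g'
    rw [orderOf_pow_of_dvd (by omega) (Dvd.intro 2 (by omega))]
    exact Nat.div_eq_of_eq_mul_left (by omega) (by omega)
  have hsub : Fx H x ∪ Fx H y ⊆ Fx H (g' ^ k) := fun p hp =>
    (stabilizer G p).pow_mem (show g' ∈ stabilizer G p from g1 p hp) k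
  have hle : ∀ a : G, orderOf a = 2 → (Fx H x ∪ Fx H y).ncard ≤ (Fx H a).ncard := fun a ha =>
    (Set.ncard_le_ncard hsub).trans (hcard _ a hi ha).le
  have eX : Fx H x = Fx H x ∪ Fx H y := Set.eq_of_subset_of_ncard_le Set.subset_union_left (hle x hx)
  have eY : Fx H y = Fx H x ∪ Fx H y := Set.eq_of_subset_of_ncard_le Set.subset_union_right (hle y hy)
  exact eX.trans eY.symm

/-- The stabiliser of the fixed point set of a central involution of a Sylow subgroup is strongly embedded. -/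
theorem exists_stronglyEmbedded [IsSimpleGroup G] (hH : H ≠ ⊤) (heven : Even (Nat.card H)) (hB : Bin H) :
    ∃ M : Subgroup G, Cfsg.IsStronglyEmbedded M := by
  haveI : Fact (Nat.Prime 2) := ⟨Nat.prime_two⟩
  obtain ⟨S⟩ : Nonempty (Sylow 2 G) := Sylow.nonempty
  have h2 : 2 ∣ Nat.card G := (even_iff_two_dvd.1 heven).trans H.card_subgroup_dvd_card
  haveI : Nontrivial (S : Subgroup G) := by
    rw [Subgroup.nontrivial_iff_ne_bot]
    exact S.ne_bot_of_dvd_card h2
  haveI : Nontrivial (center (S : Subgroup G)) := S.isPGroup'.center_nontrivial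
  obtain ⟨w, hw⟩ := exists_prime_orderOf_dvd_card' (G := center (S : Subgroup G)) 2 (by
    obtain ⟨k, hk0, hk⟩ := (S.isPGroup'.to_subgroup _).nontrivial_iff_card.1 ‹_›
    exact hk ▸ dvd_pow_self 2 hk0.ne')
  set z : G := ((w : (S : Subgroup G)) : G) with hz
  have hz2 : orderOf z = 2 := by rw [hz, Subgroup.orderOf_coe, Subgroup.orderOf_coe, hw]
  have hzS : ∀ s ∈ (S : Subgroup G), s * z = z * s := fun s hs =>
    congrArg Subtype.val (mem_center_iff.1 w.2 ⟨s, hs⟩)
  set F0 := Fx H z with hF0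
  let M : Subgroup G := stabilizer G F0
  have hSM : (S : Subgroup G) ≤ M := fun s hs => by
    show s • F0 = F0
    rw [hF0, ← Fx_conj, hzS s hs, mul_inv_cancel_right]
  have hinv : ∀ t ∈ M, orderOf t = 2 → Fx H t = F0 := by
    intro t htM ht
    have hp : IsPGroup 2 (zpowers (⟨t, htM⟩ : M)) :=
      IsPGroup.of_card (n := 1) (by rw [Nat.card_zpowers, ← Subgroup.orderOf_coe, ht, pow_one])
    obtain ⟨P, hP⟩ := hp.exists_le_sylow
    obtain ⟨m, hm⟩ := MulAction.exists_smul_eq M (S.subtype hSM) P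
    have htP : (⟨t, htM⟩ : M) ∈ (P : Subgroup M) := hP (mem_zpowers _)
    rw [← hm, Sylow.coe_subgroup_smul, mem_pointwise_smul_iff_inv_smul_mem] at htP
    have hs : (m : G)⁻¹ * t * m ∈ (S : Subgroup G) := by
      simpa [MulAut.smul_def, MulAut.conj_inv_apply, Subgroup.mem_subgroupOf] using htP
    have hs2 : orderOf ((m : G)⁻¹ * t * m) = 2 := by
      rw [← ht]; simpa using orderOf_conj (m : G)⁻¹ t
    have h1 := Fx_eq_of_commute hone hB hs2 hz2 (hzS _ hs)
    calc Fx H t = (m : G) • Fx H ((m : G)⁻¹ * t * m) := by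
          rw [← Fx_conj]; congr 1; group
      _ = F0 := by rw [h1]; exact m.2
  refine ⟨M, (CfsgLib.Signalizer.stronglyEmbedded_iff_conj M).2 ⟨fun hM => ?_, ?_, fun t ht ht2 g hg => ?_⟩⟩
  · obtain ⟨p, hp⟩ := Fx_nonempty (H := H) hone heven hz2
    have hall : ∀ r : G ⧸ H, z • r = r := fun r => by
      obtain ⟨g, rfl⟩ := MulAction.exists_smul_eq G p r
      have hgM : g • F0 = F0 := show g ∈ M from hM ▸ mem_top g
      show g • p ∈ F0
      rw [← hgM]
      exact Set.smul_mem_smul_set hp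
    have hz' : z ∈ H.normalCore := by
      rw [Subgroup.normalCore_eq_ker, MonoidHom.mem_ker]
      exact Equiv.ext hall
    rw [(IsSimpleGroup.eq_bot_or_eq_top_of_normal _ inferInstance).resolve_right
      (fun h => hH (top_le_iff.1 (h ▸ H.normalCore_le))), mem_bot] at hz'
    exact involution_ne_one hz2 hz'
  · refine even_iff_two_dvd.2 (hz2 ▸ Subgroup.orderOf_dvd_natCard M (hSM ?_))
    exact (w : (S : Subgroup G)).2
  · show g • F0 = F0
    conv_lhs => rw [← hinv t ht ht2]
    rw [← Fx_conj, hinv _ hg (by rw [orderOf_conj]; exact ht2)]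

/-- The group is one of the three rank one families. -/
theorem exists_family [IsSimpleGroup G] (hH : H ≠ ⊤) (heven : Even (Nat.card H)) (hB : Bin H) :
    CfsgLib.Bender.RankOneFamily G := by
  obtain ⟨M, hM⟩ := exists_stronglyEmbedded hone hH heven hB
  refine CfsgLib.Bender.family_of_simple CfsgLib.Bender.benderGen hM
    (CfsgLib.Bender.four_of_not_rankOne hM fun hr => ?_)
  have h := hr.oddCore_sup hM
  rcases IsSimpleGroup.eq_bot_or_eq_top_of_normal (Cfsg.oddCore G) inferInstance with e | e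
  · rw [e, bot_sup_eq] at h; exact hM.1 h
  · have h2 := CfsgLib.ZStar.odd_card_oddCore G
    rw [e, Subgroup.card_top] at h2
    exact Nat.not_even_iff_odd.2 h2 (even_iff_two_dvd.2 (dvd_trans (even_iff_two_dvd.1 heven)
      H.card_subgroup_dvd_card))

end OneClass

/-- The centre of a subgroup, as a subgroup of the group, under an isomorphism. -/
theorem center_map {G' : Type*} [Group G'] (e : G ≃* G') (P : Subgroup G) :
    ((center P).map P.subtype).map e.toMonoidHom =
      (center (P.map e.toMonoidHom : Subgroup G')).map (P.map e.toMonoidHom).subtype := by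
  ext y
  constructor
  · rintro ⟨_, ⟨u, hu, rfl⟩, rfl⟩
    refine ⟨⟨_, mem_map_of_mem _ u.2⟩, mem_center_iff.2 fun w => ?_, rfl⟩
    obtain ⟨v, hv, he⟩ := mem_map.1 w.2
    refine Subtype.ext ?_
    show (w : G') * _ = _ * (w : G')
    rw [← he, ← map_mul, ← map_mul]
    exact congrArg e.toMonoidHom (congrArg Subtype.val (mem_center_iff.1 hu ⟨v, hv⟩))
  · rintro ⟨⟨y, hy⟩, hu, rfl⟩
    obtain ⟨u, hu', rfl⟩ := mem_map.1 hy
    refine ⟨u, ⟨⟨u, hu'⟩, mem_center_iff.2 fun v => Subtype.ext (e.injective ?_), rfl⟩, rfl⟩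
    have h := congrArg Subtype.val (mem_center_iff.1 hu ⟨_, mem_map_of_mem _ v.2⟩)
    simp only [Subgroup.coe_mul, MulEquiv.coe_toMonoidHom] at h ⊢
    rw [map_mul, map_mul]
    exact h

end CfsgLib.Perm.Binary
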