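import Cfsg.Agent.Lib.Perm.Binary.UnitalTorus
import Cfsg.Agent.Lib.Perm.Binary.Lattice
import Cfsg.Agent.Lib.Perm.Binary.Reduction

/-!
Owner: helper4 (S5735). The binary coset actions of the unital model with point stabilisers of even order: the
stabiliser is the centre of a root group.
-/

set_option autoImplicit false
set_option linter.all false

namespace CfsgLib.Perm.Binary.UForward

open CfsgLib.Classical CfsgLib.Classical.Herm CfsgLib.Perm.RankOne.Unital CfsgLib.Perm.Binary.Unital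
open CfsgLib.Lie.Suzuki (Bin bin_map)
open CfsgLib.Signalizer (orderOf_eq_two_of involution_sq)

variable {F : Type*} [Field F] [Fintype F] [CharP F 2] {q : ℕ} (hF : Fintype.card F = q ^ 2) (hq : q ≠ 2)

set_option quotPrecheck false in
local notation "𝔾" => ↥(modelGroup hF)

/-- The translation in the model. -/
noncomputable def T (s : Pt F q) : 𝔾 := ⟨transPerm hF s, transPerm_mem hF s⟩

/-- The swap in the model. -/
noncomputable def sw : 𝔾 := ⟨swapPerm hF, swapPerm_mem hF⟩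

@[simp] theorem T_coe (s : Pt F q) : ((T hF s : 𝔾) : Equiv.Perm (Option (Pt F q))) = transPerm hF s := rfl

theorem T_mul (s r : Pt F q) : T hF s * T hF r = T hF (transFun hF s r) := Subtype.ext (transPerm_mul hF s r)

theorem T_zero : T hF (zeroPt hF) = 1 := Subtype.ext (transPerm_zero hF)

theorem T_inv (s : Pt F q) : (T hF s)⁻¹ = T hF (invPt hF s) := by
  refine inv_eq_of_mul_eq_one_left ?_
  rw [T_mul]
  refine (congrArg (T hF) ?_).trans (T_zero hF)
  have := trans_inv hF s (zeroPt hF)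
  rwa [transFun_zero_right] at this

theorem lab_mul (s r : Pt F q) : (transFun hF s r).1.2 = r.1.2 + s.1.2 := rfl

theorem sw_sq : sw hF * sw hF = 1 :=
  Subtype.ext (Equiv.ext fun p => swapFun_involutive hF p)

theorem sw_inv : (sw hF)⁻¹ = sw hF := inv_eq_of_mul_eq_one_right (sw_sq hF)

theorem sw_none : (sw hF : Equiv.Perm (Option (Pt F q))) none = some (zeroPt hF) := rfl

/-- The subfield. -/
abbrev Fix (c : F) : Prop := c ^ q = c

theorem top_of_gens {H : Subgroup 𝔾} (h : ∀ s, T hF s ∈ H) (hsw : sw hF ∈ H) : H = ⊤ := by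
  refine eq_top_iff.2 fun g _ => ?_
  have hle : modelGroup hF ≤ H.map (modelGroup hF).subtype := by
    refine (Subgroup.closure_le _).2 ?_
    rintro π (⟨s, rfl⟩ | rfl)
    · exact ⟨T hF s, h s, rfl⟩
    · exact ⟨sw hF, hsw, rfl⟩
  obtain ⟨g', hg', e⟩ := hle g.2
  rwa [← Subtype.ext (show (g' : Equiv.Perm (Option (Pt F q))) = g from e)]

section Torus

/-- The scalars of the torus of the model. -/
noncomputable def Tor : Subgroup Fˣ := (modelGroup hF).comap (dil hF)

theorem mem_Tor {l : Fˣ} : l ∈ Tor hF ↔ dil hF l ∈ modelGroup hF := Iff.rfl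

/-- The dilation in the model. -/
noncomputable def D : Tor hF →* 𝔾 where
  toFun l := ⟨dil hF (l : Fˣ), l.2⟩
  map_one' := Subtype.ext (map_one (dil hF))
  map_mul' l m := Subtype.ext (map_mul (dil hF) _ _)

theorem D_none (l : Tor hF) : (D hF l : Equiv.Perm (Option (Pt F q))) none = none := rfl

theorem D_conj_T (l : Tor hF) (s : Pt F q) :
    D hF l * T hF s * (D hF l)⁻¹ = T hF (dilPt hF (l : Fˣ) s) :=
  Subtype.ext (dil_conj_trans hF _ s)

theorem TD_none (a : Pt F q) (l : Tor hF) :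
    ((T hF a * D hF l : 𝔾) : Equiv.Perm (Option (Pt F q))) none = none := rfl

include hq

theorem fixed_dil (l : Fˣ) (hl : Fix (q := q) (l : F)) : dil hF l ∈ modelGroup hF :=
  dil_mem_closure hF (fun c hc => ⟨transPerm_mem hF _,
    mul_mem (mul_mem (swapPerm_mem hF) (transPerm_mem hF _)) (swapPerm_mem hF)⟩) l hl

theorem decomp {g : 𝔾} (h : (g : Equiv.Perm (Option (Pt F q))) none = none) :
    ∃ (a : Pt F q) (l : Tor hF), g = T hF a * D hF l := by
  obtain ⟨a, l, e⟩ := stab_one hF hq g.2 h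
  have hl : l ∈ Tor hF := by
    rw [mem_Tor, show dil hF l = (transPerm hF a)⁻¹ * (g : Equiv.Perm (Option (Pt F q))) by rw [e, inv_mul_cancel_left]]
    exact mul_mem (inv_mem (transPerm_mem hF a)) g.2
  exact ⟨a, ⟨l, hl⟩, Subtype.ext e⟩

/-- Conjugation by an element fixing `none` scales the labels. -/
theorem conj_lab (a : Pt F q) (l : Tor hF) (s : Pt F q) :
    ∃ r : Pt F q, T hF a * D hF l * T hF s * (T hF a * D hF l)⁻¹ = T hF r ∧
      r.1.2 = ((l : Fˣ) : F) * s.1.2 := by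
  refine ⟨transFun hF (transFun hF a (dilPt hF (l : Fˣ) s)) (invPt hF a), ?_, ?_⟩
  · rw [← T_mul, ← T_mul, ← T_inv, ← D_conj_T hF]
    group
  · show a.1.2 + ((((l : Fˣ) : F) * s.1.2) + a.1.2) = _
    rw [add_comm a.1.2, add_assoc, CharTwo.add_self_eq_zero, add_zero]

theorem conj_lab_inv (a : Pt F q) (l : Tor hF) (s : Pt F q) :
    ∃ r : Pt F q, (T hF a * D hF l)⁻¹ * T hF s * (T hF a * D hF l) = T hF r ∧
      r.1.2 = ((l : Fˣ) : F)⁻¹ * s.1.2 := by
  refine ⟨dilPt hF ((l⁻¹ : Tor hF) : Fˣ) (transFun hF (transFun hF (invPt hF a) s) a), ?_, ?_⟩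
  · rw [← D_conj_T hF, ← T_mul, ← T_mul, ← T_inv, map_inv]
    group
  · show (((l⁻¹ : Tor hF) : Fˣ) : F) * (a.1.2 + (s.1.2 + a.1.2)) = _
    rw [add_comm a.1.2, add_assoc, CharTwo.add_self_eq_zero, add_zero]
    push_cast
    rfl

include hF in
theorem exists_fix_ne : ∃ c : Fˣ, Fix (q := q) (c : F) ∧ (c : F) ≠ 1 := by
  classical
  have h : 2 < Nat.card (fixedSub (powHom hF)) := by
    rw [card_fixed_powHom hF]
    have := two_le_of_card_sq hF
    omega
  haveI := Fintype.ofFinite (fixedSub (powHom hF))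
  rw [Nat.card_eq_fintype_card] at h
  obtain ⟨c, -, hc⟩ := Finset.exists_mem_notMem_of_card_lt_card
    (s := ({0, 1} : Finset (fixedSub (powHom hF)))) (t := Finset.univ)
    (by rw [Finset.card_pair zero_ne_one, Finset.card_univ]; exact h)
  simp only [Finset.mem_insert, Finset.mem_singleton, not_or] at hc
  exact ⟨Units.mk0 (c : F) (fun e => hc.1 (Subtype.ext e)), c.2, fun e => hc.2 (Subtype.ext e)⟩

end Torus

/-- The central involution. -/
noncomputable def z1 : 𝔾 := T hF (zPt hF 1 (one_pow q))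

theorem zPt_zero : zPt hF 0 (zero_pow (q_ne_zero hF)) = zeroPt hF := rfl

theorem T_zPt_sq (c : F) (hc : c ^ q = c) : T hF (zPt hF c hc) * T hF (zPt hF c hc) = 1 := by
  rw [T_mul]
  refine (congrArg (T hF) (Subtype.ext (Prod.ext ?_ ?_))).trans (T_zero hF)
  · simp [transFun, zeroPt, q_ne_zero hF, CharTwo.add_self_eq_zero]
  · simp [transFun, zeroPt]

theorem orderOf_zPt {c : F} (hc : c ^ q = c) (h0 : c ≠ 0) : orderOf (T hF (zPt hF c hc)) = 2 := by
  refine orderOf_eq_two_of (fun e => h0 ?_) (T_zPt_sq hF c hc)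
  have := transPerm_injective hF ((congrArg Subtype.val e).trans (transPerm_zero hF).symm)
  exact congrArg (fun p : Pt F q => p.1.1) this

theorem orderOf_z1 : orderOf (z1 hF) = 2 := orderOf_zPt hF _ one_ne_zero

theorem zPt_comm (c : F) (hc : c ^ q = c) (s : Pt F q) :
    T hF (zPt hF c hc) * T hF s = T hF s * T hF (zPt hF c hc) := by
  rw [T_mul, T_mul]
  refine congrArg (T hF) (Subtype.ext (Prod.ext ?_ ?_))
  · simp [transFun, q_ne_zero hF]; ring
  · simp [transFun]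

/-- A translation with label zero lies in the centre of the root group. -/
theorem eq_zPt {s : Pt F q} (h : s.1.2 = 0) : ∃ (c : F) (hc : c ^ q = c), s = zPt hF c hc := by
  have hc : s.1.1 ^ q = s.1.1 := by
    have := s.2
    rw [h, zero_pow (Nat.succ_ne_zero q), add_zero] at this
    linear_combination this - s.1.1 * two_eq_zero (F := F)
  exact ⟨s.1.1, hc, Subtype.ext (Prod.ext rfl h)⟩

section Stab

variable {H : Subgroup ↥(modelGroup hF)} (hB : Bin H)
  (hone : ∀ s t : ↥(modelGroup hF), orderOf s = 2 → orderOf t = 2 → IsConj s t) (hz : z1 hF ∈ H)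

include hB hone in
/-- The subgroup contains the centre of a root group with each of its involutions. -/
theorem z_all (g : 𝔾) (h : g * z1 hF * g⁻¹ ∈ H) (c : F) (hc : c ^ q = c) :
    g * T hF (zPt hF c hc) * g⁻¹ ∈ H := by
  by_cases h0 : c = 0
  · subst h0
    rw [show zPt hF 0 hc = zeroPt hF from rfl, T_zero, mul_one, mul_inv_cancel]
    exact one_mem _
  have e : Fx H (z1 hF) = Fx H (T hF (zPt hF c hc)) :=
    Fx_eq_of_commute hone hB (orderOf_z1 hF) (orderOf_zPt hF hc h0) (zPt_comm hF 1 (one_pow q) (zPt hF c hc))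
  have h2 : ((g⁻¹ : 𝔾) : 𝔾 ⧸ H) ∈ Fx H (z1 hF) := by rw [mk_mem_Fx, inv_inv]; exact h
  rw [e, mk_mem_Fx, inv_inv] at h2
  exact h2

/-- The points whose root group centres lie in the subgroup. -/
def S (H : Subgroup 𝔾) (p : Option (Pt F q)) : Prop :=
  ∀ g : 𝔾, (g : Equiv.Perm (Option (Pt F q))) none = p → g * z1 hF * g⁻¹ ∈ H

theorem S_smul {p : Option (Pt F q)} {h : 𝔾} (hh : h ∈ H) (hp : S hF H p) :
    S hF H ((h : Equiv.Perm (Option (Pt F q))) p) := fun g hg => by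
  have h1 := hp (h⁻¹ * g) (by
    rw [Subgroup.coe_mul, Subgroup.coe_inv, Equiv.Perm.mul_apply, Equiv.Perm.inv_eq_iff_eq]
    exact hg)
  have h2 := mul_mem (mul_mem hh h1) (inv_mem hh)
  rwa [show h * (h⁻¹ * g * z1 hF * (h⁻¹ * g)⁻¹) * h⁻¹ = g * z1 hF * g⁻¹ by group] at h2

include hq hB hone hz

theorem z_mem (c : F) (hc : c ^ q = c) : T hF (zPt hF c hc) ∈ H := by
  simpa using z_all hF hB hone 1 (by simpa using hz) c hc

theorem S_none : S hF H none := fun g hg => by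
  obtain ⟨a, l, rfl⟩ := decomp hF hq hg
  obtain ⟨r, hr, hl⟩ := conj_lab hF hq a l (zPt hF 1 (one_pow q))
  obtain ⟨c, hc, rfl⟩ := eq_zPt hF (hl.trans (mul_zero _))
  rw [z1, hr]
  exact z_mem hF hq hB hone hz c hc

/-- The labels of the translations in the subgroup. -/
def labels : AddSubgroup F where
  carrier := {z | ∃ s, T hF s ∈ H ∧ s.1.2 = z}
  zero_mem' := ⟨zeroPt hF, by rw [T_zero]; exact one_mem _, rfl⟩
  add_mem' := by
    rintro _ _ ⟨s, hs, rfl⟩ ⟨r, hr, rfl⟩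
    exact ⟨transFun hF r s, by rw [← T_mul]; exact mul_mem hr hs, rfl⟩
  neg_mem' := by
    rintro _ ⟨s, hs, rfl⟩
    exact ⟨invPt hF s, by rw [← T_inv]; exact inv_mem hs, (CharTwo.neg_eq s.1.2).symm⟩

set_option quotPrecheck false in
local notation "𝔼" => labels hF (H := H)

theorem mem_H_iff {s : Pt F q} : T hF s ∈ H ↔ s.1.2 ∈ 𝔼 := by
  refine ⟨fun h => ⟨s, h, rfl⟩, ?_⟩
  rintro ⟨e, he, hes⟩
  obtain ⟨c, hc, h0⟩ := eq_zPt hF (s := transFun hF (invPt hF e) s) (by
    show s.1.2 + e.1.2 = 0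
    rw [hes, CharTwo.add_self_eq_zero])
  have h1 : T hF s = T hF e * T hF (zPt hF c hc) := by
    rw [← h0, ← T_mul, ← T_inv, mul_inv_cancel_left]
  rw [h1]
  exact mul_mem he (z_mem hF hq hB hone hz c hc)

/-- Elements of the subgroup fixing `none` stabilise the labels. -/
theorem scal_mem {a : Pt F q} {l : Tor hF} (h : T hF a * D hF l ∈ H) {z : F} (hzE : z ∈ 𝔼) :
    ((l : Fˣ) : F) * z ∈ 𝔼 := by
  obtain ⟨s, hs, rfl⟩ := hzE
  obtain ⟨r, hr, hl⟩ := conj_lab hF hq a l s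
  exact ⟨r, by rw [← hr]; exact mul_mem (mul_mem h hs) (inv_mem h), hl⟩

theorem surj_mul {m : F} (hm : m ≠ 0) (hE : ∀ z ∈ 𝔼, m * z ∈ 𝔼) {w : F} (hw : m * w ∈ 𝔼) : w ∈ 𝔼 := by
  obtain ⟨⟨y, hy⟩, hy'⟩ := (Finite.injective_iff_surjective (f := fun z : 𝔼 => (⟨m * z, hE z z.2⟩ : 𝔼))).1
    (fun x y e => Subtype.ext (mul_left_cancel₀ hm (congrArg Subtype.val e))) ⟨m * w, hw⟩
  exact mul_left_cancel₀ hm (congrArg Subtype.val hy') ▸ hy

/-- Intersections with conjugates by translations outside fix `none`. -/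
theorem fix_none (hpt : ∀ y, S hF H (some y) → S hF H (some (zeroPt hF))) {u : Pt F q} (hu : u.1.2 ∉ 𝔼)
    {h : 𝔾} (hh : h ∈ H) (hh' : (T hF u)⁻¹ * h * T hF u ∈ H) :
    (h : Equiv.Perm (Option (Pt F q))) none = none := by
  have hsub : ∀ y, S hF H (some y) → y.1.2 ∈ 𝔼 := by
    intro y hy
    have hc : ∀ g : 𝔾, (g * sw hF) * z1 hF * (g * sw hF)⁻¹ ∈ H → (∀ c hc, g * T hF (zPt hF c hc) * g⁻¹ ∈ H) →
        ∀ l : Tor hF, Fix (q := q) ((l : Fˣ) : F) → g * D hF l * g⁻¹ ∈ H := by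
      intro g hg hg' l hl
      have h1 := dil_mem_closure hF (K := (H.comap (MulAut.conj g).toMonoidHom).map (modelGroup hF).subtype)
        (fun c hc => ⟨⟨T hF (zPt hF c hc), hg' c hc, rfl⟩,
          ⟨sw hF * T hF (zPt hF c hc) * sw hF, by
            show g * (sw hF * T hF (zPt hF c hc) * sw hF) * g⁻¹ ∈ H
            have := z_all hF hB hone (g * sw hF) hg c hc
            rw [mul_inv_rev, sw_inv] at this
            simpa [mul_assoc] using this, rfl⟩⟩) (l : Fˣ) hl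
      obtain ⟨x, hx, e⟩ := h1
      rw [← show x = D hF l from Subtype.ext e]
      exact hx
    have hz0 : ∀ l : Tor hF, Fix (q := q) ((l : Fˣ) : F) → D hF l ∈ H := fun l hl => by
      simpa using hc 1 (by
        rw [one_mul]
        exact hpt y hy (sw hF) rfl) (fun c hc => by simpa using z_mem hF hq hB hone hz c hc) l hl
    obtain ⟨c, hcf, hc1⟩ := exists_fix_ne hF hq
    set l : Tor hF := ⟨c, fixed_dil hF hq c hcf⟩
    have h1 := hc (T hF y) (hy _ (by
        show transPerm hF y (swapPerm hF none) = some y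
        exact transPerm_apply_zero hF y)) (fun c hc => by
      rw [← zPt_comm, mul_inv_cancel_right]
      exact z_mem hF hq hB hone hz c hc) l hcf
    have h2 := mul_mem h1 (inv_mem (hz0 l hcf))
    rw [show T hF y * D hF l * (T hF y)⁻¹ * (D hF l)⁻¹ = T hF y * (D hF l * (T hF y)⁻¹ * (D hF l)⁻¹) by
      group, T_inv, D_conj_T, T_mul, mem_H_iff hF hq hB hone hz] at h2
    replace h2 : ((c : F) + 1) * y.1.2 ∈ 𝔼 := by
      rw [add_mul, one_mul]
      exact h2
    have hne : (c : F) + 1 ≠ 0 := fun e => hc1 (CharTwo.add_eq_zero.1 e)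
    refine surj_mul hF hq hB hone hz hne (fun z hz' => ?_) h2
    rw [add_mul, one_mul]
    exact add_mem (scal_mem hF hq hB hone hz (a := zeroPt hF) (l := l)
      (by rw [T_zero, one_mul]; exact hz0 l hcf) hz') hz'
  rcases hp : (h : Equiv.Perm (Option (Pt F q))) none with _ | p
  · rfl
  exfalso
  have h1 : S hF H (some p) := hp ▸ S_smul hF hh (S_none hF hq hB hone hz)
  have hy : ((((T hF u)⁻¹ * h * T hF u : 𝔾)) : Equiv.Perm (Option (Pt F q))) none =
      some (transFun hF (invPt hF u) p) := by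
    rw [T_inv]
    show transPerm hF _ ((h : Equiv.Perm (Option (Pt F q))) (transPerm hF u none)) = _
    rw [transPerm_none, hp, transPerm_some]
  have h2 : S hF H (some (transFun hF (invPt hF u) p)) := hy ▸ S_smul hF hh' (S_none hF hq hB hone hz)
  refine hu ?_
  have h3 := add_mem (hsub p h1) (hsub _ h2)
  rwa [show (transFun hF (invPt hF u) p).1.2 = p.1.2 + u.1.2 from rfl, ← add_assoc, CharTwo.add_self_eq_zero,
    zero_add] at h3

/-- A torus element in the subgroup contradicts binarity unless all translations are in it. -/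
theorem torus_false (hpt : ∀ y, S hF H (some y) → S hF H (some (zeroPt hF))) (hE : 𝔼 ≠ ⊤)
    {a : Pt F q} {l : Tor hF} (hx : T hF a * D hF l ∈ H) (hl1 : ((l : Fˣ) : F) ≠ 1) : False := by
  set L : F := ((l : Fˣ) : F) with hL
  have hL0 : L ≠ 0 := (l : Fˣ).ne_zero
  have h1L : 1 + L ≠ 0 := fun e => hl1 (CharTwo.add_eq_zero.1 e).symm
  have h1L2 : 1 + L ^ 2 ≠ 0 := fun e => h1L (eq_zero_of_pow_eq_zero (n := 2) (by
    rw [CharTwo.add_sq, one_pow]; exact e))
  have invL : ∀ z ∈ 𝔼, L * z ∈ 𝔼 := fun z hz' => scal_mem hF hq hB hone hz hx hz'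
  have inv1L : ∀ z ∈ 𝔼, (1 + L) * z ∈ 𝔼 := fun z hz' => by
    rw [add_mul, one_mul]; exact add_mem hz' (invL z hz')
  obtain ⟨w2, hw2⟩ : ∃ w, w ∉ 𝔼 := by
    by_contra h
    push Not at h
    exact hE (eq_top_iff.2 fun z _ => h z)
  obtain ⟨w, rfl⟩ := exists_pt_snd hF w2
  obtain ⟨u, hu⟩ := exists_pt_snd hF ((L + L ^ 2) * w.1.2 / (1 + L ^ 2))
  have hrel : (1 + L ^ 2) * u.1.2 = (L + L ^ 2) * w.1.2 := by rw [hu, mul_div_cancel₀ _ h1L2]
  have huE : u.1.2 ∉ 𝔼 := by
    intro h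
    refine hw2 (surj_mul hF hq hB hone hz h1L inv1L (surj_mul hF hq hB hone hz hL0 invL ?_))
    have h' : u.1.2 + L * (L * u.1.2) ∈ 𝔼 := add_mem h (invL _ (invL _ h))
    rwa [show u.1.2 + L * (L * u.1.2) = (1 + L ^ 2) * u.1.2 by ring, hrel,
      show (L + L ^ 2) * w.1.2 = L * ((1 + L) * w.1.2) by ring] at h'
  set x := T hF a * D hF l with hxdef
  obtain ⟨g, g0, g1, g2⟩ := hB.three (a := 1) (b := T hF u) (c := T hF w) (a' := 1) (b' := T hF u)
    (c' := x * T hF w) ⟨1, by simp, by simp⟩ ⟨x, by simpa using hx, by simp [mul_assoc]⟩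
    ⟨T hF u * (x * x) * (T hF u)⁻¹, by simpa [mul_assoc] using mul_mem hx hx, by
      obtain ⟨r1, e1, l1⟩ := conj_lab_inv hF hq a l u
      obtain ⟨r2, e2, l2⟩ := conj_lab hF hq a l (transFun hF (invPt hF u) w)
      have e : (x * T hF w)⁻¹ * (T hF u * (x * x) * (T hF u)⁻¹) * T hF w =
          T hF (transFun hF (invPt hF w) (transFun hF r1 r2)) * x := by
        rw [← T_mul, ← T_mul, ← e1, ← e2, ← T_mul, ← T_inv, ← T_inv, hxdef]
        group
      rw [e]
      refine mul_mem ((mem_H_iff hF hq hB hone hz).2 ?_) hx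
      rw [lab_mul, lab_mul, l1, l2, lab_mul]
      have : ((L * (w.1.2 + u.1.2)) + L⁻¹ * u.1.2) + w.1.2 = 0 := by
        field_simp
        linear_combination hrel + (L * w.1.2 + L ^ 2 * w.1.2) * two_eq_zero (F := F)
      show L * (w.1.2 + u.1.2) + L⁻¹ * u.1.2 + w.1.2 ∈ 𝔼
      rw [this]; exact zero_mem _⟩
  simp only [inv_one, one_mul, mul_one] at g0
  obtain ⟨b, m, rfl⟩ := decomp hF hq (fix_none hF hq hB hone hz hpt huE g0 g1)
  have hm : (((m : Fˣ)) : F) = 1 := by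
    by_contra hm
    refine huE (surj_mul hF hq hB hone hz (m := 1 + ((m : Fˣ) : F))
      (fun e => hm (CharTwo.add_eq_zero.1 e).symm) (fun z hz' => ?_) ?_)
    · rw [add_mul, one_mul]; exact add_mem hz' (scal_mem hF hq hB hone hz g0 hz')
    obtain ⟨r, e, hr⟩ := conj_lab hF hq b m u
    have h := mul_mem g1 (inv_mem g0)
    rw [show (T hF u)⁻¹ * (T hF b * D hF m) * T hF u * (T hF b * D hF m)⁻¹ =
      (T hF u)⁻¹ * (T hF b * D hF m * T hF u * (T hF b * D hF m)⁻¹) by group, e, T_inv, T_mul,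
      mem_H_iff hF hq hB hone hz, lab_mul, hr] at h
    rw [add_mul, one_mul, add_comm]
    exact h
  have hm1 : m = 1 := Subtype.ext (Units.ext hm)
  rw [hm1, map_one, mul_one] at g0 g2
  obtain ⟨r, e, hr⟩ := conj_lab_inv hF hq a l (transFun hF b w)
  have h := mul_mem g2 hx
  rw [← hxdef] at e
  rw [show (x * T hF w)⁻¹ * T hF b * T hF w * x = (T hF w)⁻¹ * (x⁻¹ * (T hF b * T hF w) * x) by group,
    T_mul, e, T_inv, T_mul, mem_H_iff hF hq hB hone hz, lab_mul, hr, lab_mul] at h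
  refine hw2 (surj_mul hF hq hB hone hz h1L inv1L ?_)
  have h' := add_mem (invL _ h) ((mem_H_iff hF hq hB hone hz).1 g0)
  change L * (L⁻¹ * (w.1.2 + b.1.2) + (invPt hF w).1.2) + b.1.2 ∈ 𝔼 at h'
  rw [mul_add, mul_inv_cancel_left₀ hL0] at h'
  convert h' using 1
  show _ = w.1.2 + b.1.2 + L * w.1.2 + b.1.2
  linear_combination (-b.1.2) * two_eq_zero (F := F)

/-- The subgroup does not contain all translations and fix `none`. -/
theorem all_false (hall : ∀ s, T hF s ∈ H)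
    (hfix : ∀ h ∈ H, (h : Equiv.Perm (Option (Pt F q))) none = none) : False := by
  classical
  let Λ : Subgroup (Tor hF) := H.comap (D hF)
  let Y := {y : Pt F q // y ≠ zeroPt hF}
  have hr : ∀ y : Y, ∃ (r : Pt F q) (l : Tor hF) (a : Pt F q),
      sw hF * T hF y.1 * sw hF = T hF r * sw hF * (T hF a * D hF l) := by
    intro y
    have hy : y.1.1.1 ≠ 0 := fun e => y.2 (eq_zeroPt hF e)
    obtain ⟨r, -, e⟩ := swapFun_some hF hy
    obtain ⟨a, l, h⟩ := decomp hF hq (g := (T hF r * sw hF)⁻¹ * (sw hF * T hF y.1 * sw hF)) (by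
      show (((T hF r * sw hF : 𝔾) : Equiv.Perm (Option (Pt F q)))⁻¹)
        (swapPerm hF (transPerm hF y.1 (swapPerm hF none))) = none
      rw [show swapPerm hF none = some (zeroPt hF) from rfl, transPerm_apply_zero, swapPerm_apply, e,
        Equiv.Perm.inv_eq_iff_eq]
      show some r = transPerm hF r (swapPerm hF none)
      rw [show swapPerm hF none = some (zeroPt hF) from rfl, transPerm_apply_zero])
    exact ⟨r, l, a, by rw [← h, mul_inv_cancel_left]⟩
  choose rp lam ap hr using hr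
  have hmk : ∀ (a : Pt F q) (l : Tor hF),
      ((T hF a * D hF l : 𝔾) : 𝔾 ⧸ H) = (D hF l : 𝔾 ⧸ H) := fun a l => by
    refine QuotientGroup.eq.2 ?_
    obtain ⟨r, e, -⟩ := conj_lab_inv hF hq (zeroPt hF) l (invPt hF a)
    rw [T_zero, one_mul] at e
    rw [mul_inv_rev, T_inv, e]
    exact hall r
  -- equal classes give points in one orbit of the torus part
  have key : ∀ y y' : Y, ((lam y : Tor hF) : Tor hF ⧸ Λ) = (lam y' : Tor hF ⧸ Λ) →
      ∃ l ∈ Λ, dilPt hF ((l : Tor hF) : Fˣ) y.1 = y'.1 := by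
    intro y y' he
    have he' : ((D hF (lam y)) : 𝔾 ⧸ H) = (D hF (lam y') : 𝔾 ⧸ H) := by
      refine QuotientGroup.eq.2 ?_
      rw [← map_inv, ← map_mul]
      exact QuotientGroup.eq.1 he
    set g := T hF y.1 * sw hF with hg
    set g' := T hF y'.1 * sw hF with hg'
    obtain ⟨e, e0, e1, e2⟩ := hB.three (a := 1) (b := sw hF) (c := g) (a' := 1) (b' := sw hF) (c' := g')
      ⟨1, by simp, by simp⟩
      ⟨T hF y'.1 * (T hF y.1)⁻¹, by simpa using mul_mem (hall y'.1) (inv_mem (hall y.1)),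
        by simp [hg, hg', mul_assoc]⟩
      ⟨sw hF * (T hF (rp y') * (T hF (rp y))⁻¹) * sw hF, by
        rw [show (sw hF)⁻¹ * (sw hF * (T hF (rp y') * (T hF (rp y))⁻¹) * sw hF) * sw hF =
          (T hF (rp y') * (T hF (rp y))⁻¹) * (sw hF * sw hF) by group, sw_sq, mul_one]
        exact mul_mem (hall _) (inv_mem (hall _)), by
        have h1 := QuotientGroup.eq.1 ((hmk (ap y') (lam y')).trans (he'.symm.trans (hmk (ap y) (lam y)).symm))
        have hy1 : T hF y.1 * sw hF = sw hF * (T hF (rp y) * sw hF * (T hF (ap y) * D hF (lam y))) := by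
          rw [← hr, ← mul_assoc (sw hF), ← mul_assoc (sw hF), sw_sq, one_mul]
        have hy2 : T hF y'.1 * sw hF = sw hF * (T hF (rp y') * sw hF * (T hF (ap y') * D hF (lam y'))) := by
          rw [← hr, ← mul_assoc (sw hF), ← mul_assoc (sw hF), sw_sq, one_mul]
        rw [hg, hg', hy1, hy2]
        convert h1 using 1
        simp only [mul_inv_rev, sw_inv, mul_assoc]
        rw [← mul_assoc (sw hF) (sw hF), sw_sq, one_mul, inv_mul_cancel_left, ← mul_assoc (sw hF) (sw hF), sw_sq,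
          one_mul, inv_mul_cancel_left, ← mul_assoc (sw hF) (sw hF), sw_sq, one_mul]⟩
    simp only [inv_one, one_mul, mul_one] at e0
    have f0 := hfix e e0
    have f1 := hfix _ e1
    have f2 := hfix _ e2
    simp only [Subgroup.coe_mul, Subgroup.coe_inv, Equiv.Perm.mul_apply, Equiv.Perm.inv_eq_iff_eq, hg, hg',
      sw_none, T_coe, transPerm_apply_zero] at f1 f2
    obtain ⟨m, hm⟩ := stab_two hF hq e.2 f0 f1
    have hmT : m ∈ Tor hF := by rw [mem_Tor, ← hm]; exact e.2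
    refine ⟨⟨m, hmT⟩, ?_, ?_⟩
    · show D hF ⟨m, hmT⟩ ∈ H
      rwa [show D hF ⟨m, hmT⟩ = e from Subtype.ext hm.symm]
    · rw [hm, dil_some, Option.some.injEq] at f2
      exact f2
  let rep : ∀ c : {c : Tor hF ⧸ Λ // ∃ y, (lam y : Tor hF ⧸ Λ) = c}, Y := fun c => c.2.choose
  have hstep : ∀ y : Y, ∃ l ∈ Λ, dilPt hF ((l : Tor hF) : Fˣ)
      (rep ⟨(lam y : Tor hF ⧸ Λ), y, rfl⟩).1 = y.1 := fun y => key _ _ (Exists.choose_spec (⟨y, rfl⟩ :
        ∃ y', (lam y' : Tor hF ⧸ Λ) = (lam y : Tor hF ⧸ Λ)))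
  choose mu hmu hmu' using hstep
  have hinj : Function.Injective fun y : Y => (((lam y : Tor hF ⧸ Λ).out * mu y : Tor hF) : Fˣ) := by
    intro y y' e
    have e' := Subtype.val_injective e
    have ec : (lam y : Tor hF ⧸ Λ) = (lam y' : Tor hF ⧸ Λ) := by
      have := congrArg (fun x : Tor hF => (x : Tor hF ⧸ Λ)) e'
      simpa only [QuotientGroup.mk_mul_of_mem _ (hmu _), QuotientGroup.out_eq'] using this
    have emu : mu y = mu y' := by
      rw [ec] at e'
      exact mul_left_cancel e'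
    refine Subtype.ext ?_
    rw [← hmu' y, ← hmu' y', emu]
    congr 2
    simp only [ec]
  have h1 := Nat.card_le_card_of_injective _ hinj
  rw [Nat.card_units, Nat.card_eq_fintype_card (α := F), hF] at h1
  haveI := Fintype.ofFinite (Pt F q)
  have h2 : Nat.card Y = q ^ 3 - 1 := by
    rw [Nat.card_eq_fintype_card, Fintype.card_subtype_compl, Fintype.card_subtype_eq,
      ← Nat.card_eq_fintype_card, CfsgLib.Known.UThreeEven.card_Pt hF]
  rw [h2] at h1
  have hq2 := two_le_of_card_sq hF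
  have : q ^ 2 < q ^ 3 := Nat.pow_lt_pow_right hq2 (by norm_num)
  have : 1 ≤ q ^ 2 := Nat.one_le_pow _ _ (by omega)
  omega

/-- The subgroup is the centre of the root group at `none`. -/
theorem eq_centre (hH : H ≠ ⊤) (hpt : ∀ y, S hF H (some y) → S hF H (some (zeroPt hF))) :
    ∀ x : 𝔾, x ∈ H ↔ ∃ (c : F) (hc : c ^ q = c), x = T hF (zPt hF c hc) := by
  classical
  have hT : ¬ ∃ y, S hF H (some y) := by
    rintro ⟨y, hy⟩
    have hswz : ∀ c hc, sw hF * T hF (zPt hF c hc) * sw hF ∈ H := fun c hc => by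
      have := z_all hF hB hone (sw hF) (hpt y hy _ rfl) c hc
      rwa [sw_inv] at this
    have hclo : ∀ (c : F) (hc : c ^ q = c), transPerm hF (zPt hF c hc) ∈ H.map (modelGroup hF).subtype ∧
        swapPerm hF * transPerm hF (zPt hF c hc) * swapPerm hF ∈ H.map (modelGroup hF).subtype :=
      fun c hc => ⟨⟨_, z_mem hF hq hB hone hz c hc, rfl⟩, ⟨_, hswz c hc, rfl⟩⟩
    have hswm : sw hF ∈ H := by
      obtain ⟨g, hg, e⟩ := swap_mem_closure hF hclo
      rwa [← show g = sw hF from Subtype.ext e]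
    by_cases hE : 𝔼 = ⊤
    · exact hH (top_of_gens hF (fun s => (mem_H_iff hF hq hB hone hz).2 (hE ▸ AddSubgroup.mem_top _)) hswm)
    obtain ⟨c, hcf, hc1⟩ := exists_fix_ne hF hq
    obtain ⟨g, hg, e⟩ := dil_mem_closure hF hclo c hcf
    refine torus_false hF hq hB hone hz hpt hE (a := zeroPt hF) (l := ⟨c, fixed_dil hF hq c hcf⟩) ?_ hc1
    rw [T_zero, one_mul, ← show g = D hF ⟨c, fixed_dil hF hq c hcf⟩ from Subtype.ext e]
    exact hg
  push Not at hT
  have hfix : ∀ h ∈ H, (h : Equiv.Perm (Option (Pt F q))) none = none := fun h hh => by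
    rcases hp : (h : Equiv.Perm (Option (Pt F q))) none with _ | p
    · rfl
    · exact absurd (hp ▸ S_smul hF hh (S_none hF hq hB hone hz)) (hT p)
  by_cases hE : 𝔼 = ⊤
  · exact (all_false hF hq hB hone hz (fun s => (mem_H_iff hF hq hB hone hz).2 (hE ▸ AddSubgroup.mem_top _))
      hfix).elim
  have hU : ∀ h ∈ H, ∃ a, a.1.2 ∈ 𝔼 ∧ h = T hF a := by
    intro h hh
    obtain ⟨a, l, rfl⟩ := decomp hF hq (hfix h hh)
    by_cases hl : ((l : Fˣ) : F) = 1
    · rw [show l = 1 from Subtype.ext (Units.ext hl), map_one, mul_one] at hh ⊢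
      exact ⟨a, (mem_H_iff hF hq hB hone hz).1 hh, rfl⟩
    · exact (torus_false hF hq hB hone hz hpt hE hh hl).elim
  have hbot : 𝔼 = ⊥ := by
    by_contra hb
    obtain ⟨ζ, hζ, hζm⟩ := exists_dil_mem hF hq
    refine CfsgLib.Perm.Binary.Lattice.distrib_false hF (E := 𝔼) (ζ := (ζ : F)) hζ hb hE
      fun r s t hr hs ht hr0 hs0 ht0 A hA B hB' C hC Dd hD e => ?_
    have hmem : ∀ (x : F) (hx0 : x ≠ 0), (x ∈ fixedSub (powHom hF) ∨ x = (ζ : F) ∨ x = (ζ : F) ^ 2) →
        Units.mk0 x hx0 ∈ Tor hF := by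
      intro x hx0 hx
      rcases hx with h | h | h
      · exact fixed_dil hF hq _ h
      · rw [show Units.mk0 x hx0 = ζ from Units.ext h]; exact hζm
      · rw [show Units.mk0 x hx0 = ζ ^ 2 from Units.ext (h.trans (Units.val_pow_eq_pow_val ζ 2).symm)]
        exact (Tor hF).pow_mem hζm 2
    set R : Tor hF := ⟨_, hmem r hr0 (hr.imp_right Or.inr)⟩
    set S' : Tor hF := ⟨_, hmem s hs0 (Or.inl hs)⟩
    set T' : Tor hF := ⟨_, hmem t ht0 (ht.imp_right Or.inl)⟩
    have hcj : ∀ (L : Tor hF) (p : Pt F q), (D hF L)⁻¹ * T hF p * D hF L ∈ H ↔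
        ((L : Fˣ) : F)⁻¹ * p.1.2 ∈ 𝔼 := by
      intro L p
      obtain ⟨r, e, hl⟩ := conj_lab_inv hF hq (zeroPt hF) L p
      rw [T_zero, one_mul] at e
      rw [e, mem_H_iff hF hq hB hone hz, hl]
    obtain ⟨x, hx⟩ := exists_pt_snd hF (s * A)
    obtain ⟨y, hy⟩ := exists_pt_snd hF (t * C)
    obtain ⟨g, g0, g1, g2⟩ := hB.three (a := D hF S') (b := D hF T') (c := D hF R)
      (a' := D hF S') (b' := D hF T') (c' := T hF x * D hF R)
      ⟨1, by simp, by simp⟩
      ⟨T hF x, (hcj S' x).2 (by show s⁻¹ * x.1.2 ∈ 𝔼; rw [hx, inv_mul_cancel_left₀ hs0]; exact hA),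
        by simp [mul_assoc]⟩
      ⟨T hF y, (hcj T' y).2 (by show t⁻¹ * y.1.2 ∈ 𝔼; rw [hy, inv_mul_cancel_left₀ ht0]; exact hC), by
        rw [show (T hF x * D hF R)⁻¹ * T hF y * D hF R = (D hF R)⁻¹ * ((T hF x)⁻¹ * T hF y) * D hF R by
          group, T_inv, T_mul, hcj, lab_mul]
        show r⁻¹ * (y.1.2 + x.1.2) ∈ 𝔼
        have : r⁻¹ * (y.1.2 + x.1.2) = B + Dd := by
          rw [hx, hy, inv_mul_eq_iff_eq_mul₀ hr0]
          linear_combination e + (t * C - r * B) * two_eq_zero (F := F)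
        rw [this]; exact add_mem hB' hD⟩
    obtain ⟨p, hp⟩ : ∃ p, g = T hF p := by
      obtain ⟨a, -, e'⟩ := hU _ g0
      refine ⟨dilPt hF (S' : Fˣ) a, ?_⟩
      rw [← D_conj_T hF, ← e']
      group
    subst hp
    rw [hcj] at g0 g1
    rw [show (T hF x * D hF R)⁻¹ * T hF p * D hF R = (D hF R)⁻¹ * ((T hF x)⁻¹ * T hF p) * D hF R by
      group, T_inv, T_mul, hcj, lab_mul] at g2
    refine ⟨_, g0, _, g1, _, add_mem g2 hB', ?_, ?_⟩
    · show s * (s⁻¹ * p.1.2) = t * (t⁻¹ * p.1.2)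
      rw [mul_inv_cancel_left₀ hs0, mul_inv_cancel_left₀ ht0]
    · show s * A + r * B = s * (s⁻¹ * p.1.2) + r * (r⁻¹ * (p.1.2 + x.1.2) + B)
      rw [mul_inv_cancel_left₀ hs0, mul_add, mul_inv_cancel_left₀ hr0, hx]
      linear_combination (-p.1.2) * two_eq_zero (F := F)
  intro x
  constructor
  · intro hx
    obtain ⟨a, ha, rfl⟩ := hU x hx
    rw [hbot, AddSubgroup.mem_bot] at ha
    obtain ⟨c, hc, rfl⟩ := eq_zPt hF ha
    exact ⟨c, hc, rfl⟩
  · rintro ⟨c, hc, rfl⟩
    exact z_mem hF hq hB hone hz c hc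

end Stab

include hq in
/-- A binary action of the model with an even stabiliser: the stabiliser is conjugate to the centre. -/
theorem forward (hone : ∀ s t : 𝔾, orderOf s = 2 → orderOf t = 2 → IsConj s t) {H : Subgroup 𝔾} (hH : H ≠ ⊤)
    (heven : Even (Nat.card H)) (hB : Bin H) :
    ∃ g : 𝔾, ∀ x : 𝔾, x ∈ H ↔ ∃ (c : F) (hc : c ^ q = c), g⁻¹ * x * g = T hF (zPt hF c hc) := by
  obtain ⟨i, hiH, hi⟩ := CfsgLib.Signalizer.exists_involution_of_even heven
  obtain ⟨g, hg⟩ := isConj_iff.1 (hone _ i (orderOf_z1 hF) hi)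
  let conjH : 𝔾 → Subgroup 𝔾 := fun g => H.map (MulAut.conj g⁻¹).toMonoidHom
  have hmem : ∀ g x, x ∈ conjH g ↔ g * x * g⁻¹ ∈ H := fun g x => by
    rw [Subgroup.mem_map_equiv]
    simp [MulAut.conj_symm_apply, mul_assoc]
  obtain ⟨g, hz, hpt⟩ : ∃ g : 𝔾, z1 hF ∈ conjH g ∧
      ∀ y, S hF (conjH g) (some y) → S hF (conjH g) (some (zeroPt hF)) := by
    have hz : z1 hF ∈ conjH g := (hmem g _).2 (by rw [hg]; exact hiH)
    by_cases h : ∃ y, S hF (conjH g) (some y)
    swap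
    · exact ⟨g, hz, fun y hy => absurd ⟨y, hy⟩ h⟩
    obtain ⟨y, hy⟩ := h
    refine ⟨g * T hF y, (hmem _ _).2 ?_, fun _ _ w hw => (hmem _ _).2 ?_⟩
    · rw [show g * T hF y * z1 hF * (g * T hF y)⁻¹ = g * (T hF y * z1 hF * (T hF y)⁻¹) * g⁻¹ by group,
        z1, ← zPt_comm, mul_inv_cancel_right, ← z1, hg]
      exact hiH
    · have := (hmem _ _).1 (hy (T hF y * w) (by
        show transPerm hF y ((w : Equiv.Perm (Option (Pt F q))) none) = some y
        rw [hw, transPerm_apply_zero]))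
      rw [show g * T hF y * (w * z1 hF * w⁻¹) * (g * T hF y)⁻¹ =
        g * (T hF y * w * z1 hF * (T hF y * w)⁻¹) * g⁻¹ by group]
      exact this
  refine ⟨g, fun x => ?_⟩
  have hne : conjH g ≠ ⊤ := fun e => hH (eq_top_iff.2 fun x _ => by
    have := (hmem g (g⁻¹ * x * g)).1 (e ▸ Subgroup.mem_top _)
    simpa [mul_assoc] using this)
  rw [← eq_centre hF hq (H := conjH g) (bin_map _ hB) hone hz hne hpt (g⁻¹ * x * g), hmem]
  simp [mul_assoc]

end CfsgLib.Perm.Binary.UForward
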