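import Cfsg.Agent.Lib.Perm.Binary.UnitalCentre
import Cfsg.Agent.Lib.Perm.Binary.UnitalForward
import Cfsg.Agent.Lib.Recog.PrimeGraph
import Cfsg.Agent.S5736
import Cfsg.Agent.S5737

/-!
Owner: helper4 (S5735). Binary coset actions with stabilisers of even order in a simple group with one class of
involutions.
-/

set_option autoImplicit false
set_option linter.all false

namespace CfsgLib.Perm.Binary

open Subgroup
open CfsgLib.Lie.Suzuki (Bin bin_map bin_map_iff)

universe u v w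

section Transport

variable {G : Type u} [Group G] {G' : Type v} [Group G'] (e : G ≃* G')

theorem map_ne_top {H : Subgroup G} (hH : H ≠ ⊤) : H.map e.toMonoidHom ≠ ⊤ := fun h => hH (by
  refine Subgroup.map_injective (f := e.toMonoidHom) e.injective ?_
  rw [h, Subgroup.map_top_of_surjective _ e.surjective])

theorem card_map_equiv (H : Subgroup G) : Nat.card ↥(H.map e.toMonoidHom) = Nat.card H :=
  (Nat.card_congr (e.subgroupMap H).toEquiv).symm

theorem exists_sylow_of_map [Finite G] [Finite G'] {H : Subgroup G} (h : ∃ P : Sylow 2 G', H.map e.toMonoidHom = P) :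
    ∃ P : Sylow 2 G, H = P := by
  obtain ⟨P, hP⟩ := h
  refine ⟨P.mapSurjective (f := e.symm.toMonoidHom) e.symm.surjective, ?_⟩
  show H = (P : Subgroup G').map e.symm.toMonoidHom
  rw [← hP, Subgroup.map_map, show e.symm.toMonoidHom.comp e.toMonoidHom = MonoidHom.id G from
    MonoidHom.ext fun x => e.symm_apply_apply x, Subgroup.map_id]

theorem exists_centre_of_map [Finite G] [Finite G'] {H : Subgroup G}
    (h : ∃ P : Sylow 2 G', H.map e.toMonoidHom = (center (P : Subgroup G')).map (P : Subgroup G').subtype) :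
    ∃ P : Sylow 2 G, H = (center (P : Subgroup G)).map (P : Subgroup G).subtype := by
  obtain ⟨P, hP⟩ := h
  refine ⟨P.mapSurjective (f := e.symm.toMonoidHom) e.symm.surjective, ?_⟩
  show H = (center ↥((P : Subgroup G').map e.symm.toMonoidHom)).map ((P : Subgroup G').map e.symm.toMonoidHom).subtype
  rw [← map_center_map, ← hP, Subgroup.map_map, show e.symm.toMonoidHom.comp e.toMonoidHom = MonoidHom.id G from
    MonoidHom.ext fun x => e.symm_apply_apply x, Subgroup.map_id]

end Transport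

variable {G : Type u} [Group G] [Finite G] {H : Subgroup G}

theorem sl_two_forward {F : Type v} [Field F] [Fintype F] [CharP F 2] (h4 : 4 ≤ Fintype.card F)
    (e : G ≃* Matrix.SpecialLinearGroup (Fin 2) F) (hH : H ≠ ⊤) (heven : Even (Nat.card H)) (hB : Bin H) :
    ∃ P : Sylow 2 G, H = P := by
  obtain ⟨e'⟩ := CfsgLib.Recog.AffineTwo.psl_equiv_sl F
  set φ : G ≃* Matrix.ProjectiveSpecialLinearGroup (Fin 2) F := e.trans e'.symm
  have h5 : Fintype.card F ≠ 5 := by
    intro h
    obtain ⟨n, -, hn⟩ := FiniteField.card F 2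
    rw [h] at hn
    have : 2 ∣ 5 := hn ▸ dvd_pow_self 2 n.ne_zero
    omega
  rcases (Cfsg.Agent.S5736.result h4 h5 _ (map_ne_top φ hH)).1 (bin_map φ hB) with h | ⟨-, h⟩ | ⟨-, h⟩
  · rw [← card_map_equiv φ H, h, Subgroup.card_bot] at heven
    exact absurd heven Nat.not_even_one
  · exact exists_sylow_of_map φ h
  · rw [← card_map_equiv φ H, h] at heven
    exact absurd heven (by decide)

theorem sl_two_backward {F : Type v} [Field F] [Fintype F] {a : ℕ} (ha : 2 ≤ a) (hF : Fintype.card F = 2 ^ a)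
    (e : G ≃* Matrix.SpecialLinearGroup (Fin 2) F) (P : Sylow 2 G) (hP : (P : Subgroup G) ≠ ⊤) :
    Bin (P : Subgroup G) := by
  haveI : CharP F 2 := charP_of_card_eq_prime_pow (f := a) hF
  obtain ⟨e'⟩ := CfsgLib.Recog.AffineTwo.psl_equiv_sl F
  set φ : G ≃* Matrix.ProjectiveSpecialLinearGroup (Fin 2) F := e.trans e'.symm
  have h4 : 4 ≤ Fintype.card F := hF ▸ le_trans (by norm_num) (Nat.pow_le_pow_right two_pos ha)
  have h5 : Fintype.card F ≠ 5 := by
    intro h
    rw [h] at hF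
    have : 2 ∣ 5 := hF ▸ dvd_pow_self 2 (by omega)
    omega
  exact (bin_map_iff φ).1 ((Cfsg.Agent.S5736.result h4 h5 _ (map_ne_top φ hP)).2
    (Or.inr (Or.inl ⟨⟨a, hF⟩, P.mapSurjective (f := φ.toMonoidHom) φ.surjective, rfl⟩)))

theorem suzuki_forward (hS : Cfsg.Lie.IsoSuzuki G) (hH : H ≠ ⊤) (heven : Even (Nat.card H)) (hB : Bin H) :
    ∃ P : Sylow 2 G, H = (center (P : Subgroup G)).map (P : Subgroup G).subtype := by
  obtain ⟨F, _, _, m, hm, hF, ⟨e⟩⟩ := hS
  rcases (Cfsg.Agent.S5737.result m hm hF _ (map_ne_top e hH)).1 (bin_map e hB) with h | h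
  · rw [← card_map_equiv e H, h, Subgroup.card_bot] at heven
    exact absurd heven Nat.not_even_one
  · exact exists_centre_of_map e h

theorem suzuki_backward (hS : Cfsg.Lie.IsoSuzuki G) (P : Sylow 2 G)
    (hP : (center (P : Subgroup G)).map (P : Subgroup G).subtype ≠ ⊤) :
    Bin ((center (P : Subgroup G)).map (P : Subgroup G).subtype) := by
  obtain ⟨F, _, _, m, hm, hF, ⟨e⟩⟩ := hS
  refine (bin_map_iff e).1 ((Cfsg.Agent.S5737.result m hm hF _ (map_ne_top e hP)).2
    (Or.inr ⟨P.mapSurjective (f := e.toMonoidHom) e.surjective, ?_⟩))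
  rw [map_center_map]
  rfl

theorem psu_forward {F : Type v} [Field F] [Fintype F] {q : ℕ} (hqe : Even q) (hq4 : 4 ≤ q)
    (hF : Fintype.card F = q ^ 2) (e : G ≃* Cfsg.PSU 3 F q)
    (hone : ∀ s t : G, orderOf s = 2 → orderOf t = 2 → IsConj s t)
    (hH : H ≠ ⊤) (heven : Even (Nat.card H)) (hB : Bin H) :
    ∃ P : Sylow 2 G, H = (center (P : Subgroup G)).map (P : Subgroup G).subtype := by
  obtain ⟨p, hp⟩ := CharP.exists F
  obtain ⟨n, hpr, hn⟩ := FiniteField.card F p
  have hp2 : p = 2 := ((Nat.prime_dvd_prime_iff_eq Nat.prime_two hpr).1 (Nat.prime_two.dvd_of_dvd_pow (n := n)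
    (hn ▸ hF ▸ dvd_pow (even_iff_two_dvd.1 hqe) two_ne_zero))).symm
  subst hp2
  have hq : q ≠ 2 := by omega
  obtain ⟨f⟩ := CfsgLib.Perm.RankOne.Unital.nonempty_modelGroup_equiv hF hq
  set ψ := e.trans f.symm
  haveI : Finite (CfsgLib.Perm.RankOne.Unital.modelGroup hF) := Finite.of_equiv G ψ.toEquiv
  obtain ⟨g, hg⟩ := UForward.forward hF hq (fun s t hs ht => by
    have h := hone (ψ.symm s) (ψ.symm t) (by rw [MulEquiv.orderOf_eq]; exact hs)
      (by rw [MulEquiv.orderOf_eq]; exact ht)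
    have h' := MonoidHom.map_isConj ψ.toMonoidHom h
    simpa using h') (map_ne_top ψ hH) (by rw [card_map_equiv]; exact heven) (bin_map ψ hB)
  obtain ⟨S, hS, hSZ⟩ := Unital.exists_sylow hF hq
  refine exists_centre_of_map (ψ.trans (MulAut.conj g⁻¹)) ⟨S, ?_⟩
  rw [hSZ]
  ext x
  rw [show (ψ.trans (MulAut.conj g⁻¹)).toMonoidHom = (MulAut.conj g⁻¹).toMonoidHom.comp ψ.toMonoidHom from rfl,
    ← Subgroup.map_map, Subgroup.mem_map_equiv, MulAut.conj_symm_apply, hg]
  simp only [inv_inv, mul_assoc, inv_mul_cancel, mul_one, inv_mul_cancel_left]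
  exact ⟨fun ⟨c, hc, h⟩ => ⟨c, hc, congrArg Subtype.val h⟩, fun ⟨c, hc, h⟩ => ⟨c, hc, Subtype.ext h⟩⟩

end CfsgLib.Perm.Binary
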