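import Cfsg.Agent.Lib.Perm.Binary.UnitalTorus
import Cfsg.Agent.Lib.Lie.Suzuki.BinaryCriteria

/-!
# The centre of a Sylow 2-subgroup of `PSU₃(q)`, `q` even, gives a binary action (owner: helper17)

* `bin_of_elementary_ti`: an elementary abelian 2-group containing every involution that centralizes
  one of its involutions is binary
* `exists_sylow`: the translations form a Sylow 2-subgroup of the unital model, with centre `zGrp`
* `bin_center_psu`: the transfer to a group isomorphic to `PSU₃(2^a)`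
-/

set_option autoImplicit false
set_option linter.all false

namespace CfsgLib.Perm.Binary

open CfsgLib.Lie.Suzuki (Bin bin_map smul_coset_eq_iff)

/-- An elementary abelian 2-group that contains each involution centralizing one of its non-trivial
elements is the stabiliser of a binary action. -/
theorem bin_of_elementary_ti {G : Type*} [Group G] {H : Subgroup G} (h2 : ∀ x ∈ H, x * x = 1)
    (hti : ∀ h ∈ H, h ≠ 1 → ∀ i : G, i * i = 1 → i * h = h * i → i ∈ H) : Bin H := by
  classical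
  intro n I J hn hloc
  -- the stabilisers of points have the same property
  have hstab : ∀ (x : G ⧸ H) (g : G), g • x = x → g * g = 1 := by
    intro x g hg
    obtain ⟨a, rfl⟩ := QuotientGroup.mk_surjective x
    have h := h2 _ (smul_coset_eq_iff.1 hg)
    calc g * g = a * (a⁻¹ * g * a * (a⁻¹ * g * a)) * a⁻¹ := by group
      _ = 1 := by rw [h]; group
  have hfix : ∀ (x : G ⧸ H) (g i : G), g • x = x → g ≠ 1 → i * i = 1 → i * g = g * i → i • x = x := by
    intro x g i hg h1 hi hc
    obtain ⟨a, rfl⟩ := QuotientGroup.mk_surjective x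
    refine smul_coset_eq_iff.2 (hti _ (smul_coset_eq_iff.1 hg) (fun e => h1 ?_) _ ?_ ?_)
    · calc g = a * (a⁻¹ * g * a) * a⁻¹ := by group
        _ = 1 := by rw [e]; group
    · calc a⁻¹ * i * a * (a⁻¹ * i * a) = a⁻¹ * (i * i) * a := by group
        _ = 1 := by rw [hi]; group
    · calc a⁻¹ * i * a * (a⁻¹ * g * a) = a⁻¹ * (i * g) * a := by group
        _ = a⁻¹ * (g * i) * a := by rw [hc]
        _ = _ := by group
  -- two stabilisers meet trivially or coincide
  have hsame : ∀ (x y : G ⧸ H) (g : G), g • x = x → g • y = y → g ≠ 1 → ∀ k : G, k • x = x → k • y = y := by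
    intro x y g hgx hgy h1 k hk
    have hgk : k * g = g * k := by
      have a := hstab x k hk
      have b := hstab x g hgx
      have c := hstab x (k * g) (by rw [mul_smul, hgx, hk])
      rw [← inv_eq_of_mul_eq_one_right c, mul_inv_rev, inv_eq_of_mul_eq_one_right a, inv_eq_of_mul_eq_one_right b]
    exact hfix y g k hgy h1 (hstab x k hk) hgk
  set i₀ : Fin n := ⟨0, by omega⟩ with hi₀
  obtain ⟨g₀, hg₀⟩ : ∃ g : G, g • I i₀ = J i₀ := by
    obtain ⟨g, hg, -⟩ := hloc i₀ ⟨1, by omega⟩ (fun e => by have := congrArg Fin.val e; simp [hi₀] at this)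
    exact ⟨g, hg⟩
  -- elements fixing the first point
  have hh : ∀ i, ∃ h : G, h • I i₀ = I i₀ ∧ (g₀ * h) • I i = J i := by
    intro i
    by_cases hi : i = i₀
    · exact ⟨1, one_smul _ _, by rw [mul_one, hi, hg₀]⟩
    · obtain ⟨g, hg, hgi⟩ := hloc i₀ i (Ne.symm hi)
      exact ⟨g₀⁻¹ * g, by rw [mul_smul, hg, inv_smul_eq_iff, hg₀], by rw [mul_inv_cancel_left, hgi]⟩
  choose h hh0 hhi using hh
  -- points with the stabiliser of the first one
  by_cases hall : ∀ i, ∀ k : G, k • I i₀ = I i₀ → k • I i = I i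
  · exact ⟨g₀, fun i => by rw [← hhi i, mul_smul, hall i _ (hh0 i)]⟩
  push Not at hall
  obtain ⟨j, k₀, hk₀, hk₀j⟩ := hall
  have hjne : ∀ c : G, c • I i₀ = I i₀ → c • I j = I j → c = 1 := by
    intro c hc hcj
    by_contra h1
    exact hk₀j (hsame _ _ c hc hcj h1 k₀ hk₀)
  refine ⟨g₀ * h j, fun i => ?_⟩
  by_cases hsi : ∀ k : G, k • I i₀ = I i₀ → k • I i = I i
  · rw [mul_smul, hsi _ (hh0 j), ← hhi i, mul_smul, hsi _ (hh0 i)]
  push Not at hsi
  obtain ⟨k₁, hk₁, hk₁i⟩ := hsi
  suffices e : h i = h j by rw [← e, hhi]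
  by_cases hij : i = j
  · rw [hij]
  obtain ⟨g, hgi, hgj⟩ := hloc i j hij
  set b := (g₀ * h i)⁻¹ * g with hbdef
  set c := (g₀ * h j)⁻¹ * g with hcdef
  have hb : b • I i = I i := by rw [hbdef, mul_smul, hgi, inv_smul_eq_iff, hhi]
  have hc : c • I j = I j := by rw [hcdef, mul_smul, hgj, inv_smul_eq_iff, hhi]
  set x := c * b⁻¹ with hxdef
  have hxe : x = (h j)⁻¹ * h i := by rw [hxdef, hcdef, hbdef]; group
  have hx : x • I i₀ = I i₀ := by rw [hxe, mul_smul, hh0, inv_smul_eq_iff, hh0]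
  by_contra hne
  have hx1 : x ≠ 1 := fun e => hne (inv_mul_eq_one.1 (hxe ▸ e)).symm
  have b2 := hstab _ b hb
  have c2 := hstab _ c hc
  have x2 := hstab _ x hx
  have binv : b⁻¹ = b := inv_eq_of_mul_eq_one_right b2
  have hcb : c * b = b * c := by
    have e : (c * b) * (c * b) = 1 := by rw [hxdef, binv] at x2; exact x2
    rw [← inv_eq_of_mul_eq_one_right e, mul_inv_rev, binv, inv_eq_of_mul_eq_one_right c2]
  have hxcb : x = c * b := by rw [hxdef, binv]
  by_cases hb1 : b = 1
  · rw [hb1, mul_one] at hxcb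
    exact hx1 (hjne x hx (by rw [hxcb]; exact hc))
  -- `b` commutes with `x`, so it fixes the first point
  have hb0 : b • I i₀ = I i₀ := hfix _ x b hx hx1 b2 (by rw [hxcb, ← mul_assoc, ← hcb])
  exact hk₁i (hsame _ _ b hb0 hb hb1 k₁ hk₁)

namespace Unital

open CfsgLib.Classical CfsgLib.Classical.Herm CfsgLib.Perm.RankOne.Unital

variable {F : Type*} [Field F] [Fintype F] [CharP F 2] {q : ℕ} (hF : Fintype.card F = q ^ 2)

theorem transFun_zPt (c d : F) (hc : c ^ q = c) (hd : d ^ q = d) :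
    transFun hF (zPt hF c hc) (zPt hF d hd) = zPt hF (d + c) (by rw [pow_add hF, hd, hc]) := by
  apply Subtype.ext
  simp [transFun, q_ne_zero hF]

theorem transPerm_inv (s : Pt F q) : (transPerm hF s)⁻¹ = transPerm hF (invPt hF s) := by
  refine inv_eq_of_mul_eq_one_right ?_
  rw [transPerm_mul, ← transPerm_zero hF]
  congr 1
  have h := trans_inv hF (invPt hF s) (zeroPt hF)
  rwa [invPt_invPt, transFun_zero_right] at h

theorem zPt_sq (c : F) (hc : c ^ q = c) :
    transPerm hF (zPt hF c hc) * transPerm hF (zPt hF c hc) = 1 := by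
  rw [transPerm_mul, transFun_zPt, eq_zeroPt hF (p := zPt hF (c + c) _) (by simp [CharTwo.add_self_eq_zero]),
    transPerm_zero]

/-- The centre of the root group. -/
noncomputable def zGrp : Subgroup (modelGroup hF) where
  carrier := {g | ∃ (c : F) (hc : c ^ q = c), (g : Equiv.Perm (Option (Pt F q))) = transPerm hF (zPt hF c hc)}
  one_mem' := ⟨0, zero_pow (q_ne_zero hF), by
    rw [eq_zeroPt hF (p := zPt hF 0 (zero_pow (q_ne_zero hF))) rfl, transPerm_zero]; rfl⟩
  mul_mem' := by
    rintro g g' ⟨c, hc, e⟩ ⟨d, hd, e'⟩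
    exact ⟨d + c, _, by rw [Subgroup.coe_mul, e, e', transPerm_mul, transFun_zPt hF c d hc hd]⟩
  inv_mem' := by
    rintro g ⟨c, hc, e⟩
    refine ⟨c, hc, ?_⟩
    rw [Subgroup.coe_inv, e]
    exact inv_eq_of_mul_eq_one_right (zPt_sq hF c hc)

/-- The root group. -/
noncomputable def qGrp : Subgroup (modelGroup hF) where
  carrier := {g | ∃ s : Pt F q, (g : Equiv.Perm (Option (Pt F q))) = transPerm hF s}
  one_mem' := ⟨zeroPt hF, by rw [transPerm_zero]; rfl⟩
  mul_mem' := by
    rintro g g' ⟨s, e⟩ ⟨r, e'⟩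
    exact ⟨transFun hF s r, by rw [Subgroup.coe_mul, e, e', transPerm_mul]⟩
  inv_mem' := by
    rintro g ⟨s, e⟩
    exact ⟨invPt hF s, by rw [Subgroup.coe_inv, e, transPerm_inv]⟩

theorem zGrp_le_qGrp : zGrp hF ≤ qGrp hF := fun g ⟨c, hc, e⟩ => ⟨_, e⟩

theorem card_qGrp : Nat.card (qGrp hF) = q ^ 3 := by
  rw [← CfsgLib.Known.UThreeEven.card_Pt hF]
  refine Nat.card_congr (Equiv.ofBijective
    (fun s : Pt F q => (⟨⟨transPerm hF s, transPerm_mem hF s⟩, ⟨s, rfl⟩⟩ : qGrp hF)) ⟨fun s r h => ?_, ?_⟩).symm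
  · exact transPerm_injective hF (congrArg (fun x : qGrp hF => ((x : modelGroup hF) : Equiv.Perm (Option (Pt F q)))) h)
  · rintro ⟨g, s, e⟩
    exact ⟨s, Subtype.ext (Subtype.ext e.symm)⟩

include hF in
theorem exists_two_pow : ∃ a, q = 2 ^ a := by
  obtain ⟨n, -, hn⟩ := FiniteField.card F 2
  obtain ⟨a, -, e⟩ := (Nat.dvd_prime_pow Nat.prime_two).1
    (show q ∣ 2 ^ (n : ℕ) from ⟨q, by rw [← hn, hF, pow_two]⟩)
  exact ⟨a, e⟩

variable (hq : q ≠ 2)
include hq

theorem index_qGrp_odd : Odd (qGrp hF).index := by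
  classical
  obtain ⟨a, rfl⟩ := exists_two_pow hF
  have hqe : Even (2 ^ a) := by
    rcases a with _ | a
    · exact absurd hF (by simpa using (Fintype.one_lt_card (α := F)).ne')
    · exact ⟨2 ^ a, by rw [pow_succ]; omega⟩
  let D : Subgroup Fˣ := (modelGroup hF).comap (dil hF)
  have hD : Odd (Nat.card D) := by
    have h1 : Nat.card D ∣ Nat.card Fˣ := Subgroup.card_subgroup_dvd_card D
    rw [Nat.card_units, Nat.card_eq_fintype_card (α := F), hF] at h1
    have h2 : Even ((2 ^ a) ^ 2) := by rw [pow_two]; exact hqe.mul_right _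
    have h3 : Odd ((2 ^ a) ^ 2 - 1) := by
      refine Nat.Even.sub_odd (Nat.one_le_iff_ne_zero.2 (pow_ne_zero _ (pow_ne_zero _ two_ne_zero))) h2 odd_one
    exact Odd.of_dvd_nat h3 h1
  set St := MulAction.stabilizer (modelGroup hF) (none : Option (Pt F (2 ^ a)))
  have horb : St.index = (2 ^ a) ^ 3 + 1 := by
    haveI : MulAction.IsPretransitive (modelGroup hF) (Option (Pt F (2 ^ a))) := ⟨fun x y => by
      obtain ⟨m, hm, e⟩ := exists_act_none hF x
      obtain ⟨m', hm', e'⟩ := exists_act_none hF y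
      exact ⟨⟨m', hm'⟩ * (⟨m, hm⟩ : modelGroup hF)⁻¹, by
        show m' ((m⁻¹ : Equiv.Perm (Option (Pt F (2 ^ a)))) x) = y
        rw [show (m⁻¹ : Equiv.Perm (Option (Pt F (2 ^ a)))) x = none from Equiv.Perm.inv_eq_iff_eq.2 e.symm, e']⟩⟩
    rw [MulAction.index_stabilizer_of_transitive, Finite.card_option, CfsgLib.Known.UThreeEven.card_Pt hF]
  have hle : qGrp hF ≤ St := fun g ⟨s, e⟩ => by
    show (g : Equiv.Perm (Option (Pt F (2 ^ a)))) none = none
    rw [e, transPerm_none]
  have hcard : Nat.card St = (2 ^ a) ^ 3 * Nat.card D := by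
    rw [← CfsgLib.Known.UThreeEven.card_Pt hF, ← Nat.card_prod]
    refine (Nat.card_congr (Equiv.ofBijective (fun p : Pt F (2 ^ a) × D =>
      (⟨⟨transPerm hF p.1 * dil hF p.2, mul_mem (transPerm_mem hF p.1) p.2.2⟩, rfl⟩ : St)) ⟨?_, ?_⟩)).symm
    · rintro ⟨s, l⟩ ⟨r, m⟩ h
      have h' : transPerm hF s * dil hF (l : Fˣ) = transPerm hF r * dil hF (m : Fˣ) :=
        congrArg (fun x : St => ((x : modelGroup hF) : Equiv.Perm (Option (Pt F (2 ^ a))))) h
      have hs : s = r := by
        have := congrArg (fun e : Equiv.Perm (Option (Pt F (2 ^ a))) => e (some (zeroPt hF))) h'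
        simpa only [Equiv.Perm.mul_apply, dil_some, dilPt_zeroPt, transPerm_apply_zero, Option.some.injEq] using this
      subst hs
      exact Prod.ext rfl (Subtype.ext (dil_injective hF (mul_left_cancel h')))
    · rintro ⟨⟨g, hg⟩, hg0⟩
      obtain ⟨s, l, rfl⟩ := stab_one hF hq hg hg0
      have hl : dil hF l ∈ modelGroup hF := by
        have := mul_mem (inv_mem (transPerm_mem hF s)) hg
        rwa [inv_mul_cancel_left] at this
      exact ⟨(s, ⟨l, hl⟩), rfl⟩
  have h := Subgroup.relIndex_mul_index hle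
  have h2 := Subgroup.card_mul_index ((qGrp hF).subgroupOf St)
  rw [Nat.card_congr (Subgroup.subgroupOfEquivOfLe hle).toEquiv, card_qGrp hF, hcard,
    show ((qGrp hF).subgroupOf St).index = (qGrp hF).relIndex St from rfl] at h2
  rw [← h, horb, Nat.eq_of_mul_eq_mul_left (pow_pos (pow_pos two_pos _) _) h2]
  exact hD.mul ((hqe.pow_of_ne_zero (by norm_num)).add_one)

/-- The root group is a Sylow 2-subgroup with centre `zGrp`. -/
theorem exists_sylow : ∃ P : Sylow 2 (modelGroup hF), (P : Subgroup (modelGroup hF)) = qGrp hF ∧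
    (Subgroup.center (P : Subgroup (modelGroup hF))).map (P : Subgroup (modelGroup hF)).subtype = zGrp hF := by
  haveI : Fact (Nat.Prime 2) := ⟨Nat.prime_two⟩
  obtain ⟨a, ha⟩ := exists_two_pow hF
  have hp : IsPGroup 2 (qGrp hF) := IsPGroup.of_card (n := a * 3) (by rw [card_qGrp hF, ha, ← pow_mul])
  have hi := index_qGrp_odd hF hq
  refine ⟨hp.toSylow (fun h => (Nat.not_even_iff_odd.2 hi) (even_iff_two_dvd.2 h)), rfl, ?_⟩
  show (Subgroup.center (qGrp hF)).map (qGrp hF).subtype = zGrp hF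
  ext g
  constructor
  · rintro ⟨⟨g, s, hs⟩, hc, rfl⟩
    have key : ∀ r : Pt F q, s.1.2 ^ q * r.1.2 = r.1.2 ^ q * s.1.2 := by
      intro r
      have := Subgroup.mem_center_iff.1 hc ⟨⟨transPerm hF r, transPerm_mem hF r⟩, r, rfl⟩
      have h' : transPerm hF r * (g : Equiv.Perm (Option (Pt F q))) = (g : Equiv.Perm (Option (Pt F q))) * transPerm hF r :=
        congrArg (fun x : qGrp hF => ((x : modelGroup hF) : Equiv.Perm (Option (Pt F q)))) this
      rw [hs, transPerm_mul, transPerm_mul] at h'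
      have := congrArg (fun p : Pt F q => p.1.1) (transPerm_injective hF h')
      simp only [transFun] at this
      linear_combination -this
    obtain ⟨r₁, hr₁⟩ := exists_pt_snd hF (1 : F)
    have hbar : s.1.2 ^ q = s.1.2 := by have := key r₁; simpa [hr₁] using this
    obtain ⟨w, hw⟩ : ∃ w : F, w ^ q ≠ w := by
      obtain ⟨l, hl, -⟩ := exists_dil_mem hF hq
      exact ⟨_, hl⟩
    obtain ⟨r₂, hr₂⟩ := exists_pt_snd hF w
    have h0 : s.1.2 = 0 := by
      have := key r₂
      rw [hbar, hr₂] at this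
      by_contra h0
      exact hw (mul_left_cancel₀ h0 (by linear_combination -this))
    have hc' : s.1.1 ^ q = s.1.1 := by
      have := s.2
      rw [h0, zero_pow (Nat.succ_ne_zero q), add_zero] at this
      linear_combination this - s.1.1 * two_eq_zero (F := F)
    exact ⟨s.1.1, hc', hs.trans (congrArg _ (Subtype.ext (Prod.ext rfl h0)))⟩
  · rintro ⟨c, hc, e⟩
    refine ⟨⟨g, ⟨_, e⟩⟩, Subgroup.mem_center_iff.2 ?_, rfl⟩
    rintro ⟨h, r, hr⟩
    refine Subtype.ext (Subtype.ext ?_)
    show (h : Equiv.Perm (Option (Pt F q))) * (g : Equiv.Perm (Option (Pt F q))) = (g : Equiv.Perm (Option (Pt F q))) * (h : Equiv.Perm (Option (Pt F q)))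
    rw [e, hr, transPerm_mul, transPerm_mul]
    congr 1
    apply Subtype.ext
    simp [transFun, q_ne_zero hF, add_comm]

/-- **The centre of a Sylow 2-subgroup of the model is binary.** -/
theorem bin_zGrp : Bin (zGrp hF) := by
  refine bin_of_elementary_ti ?_ ?_
  · rintro g ⟨c, hc, e⟩
    exact Subtype.ext (by rw [Subgroup.coe_mul, e, zPt_sq]; rfl)
  · rintro h ⟨c, hc, e⟩ h1 i hi hcomm
    have hc0 : c ≠ 0 := fun h0 => h1 (Subtype.ext (by
      subst h0
      rw [e, eq_zeroPt hF (p := zPt hF 0 hc) rfl, transPerm_zero]; rfl))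
    have hcomm' : (i : Equiv.Perm (Option (Pt F q))) * transPerm hF (zPt hF c hc) =
        transPerm hF (zPt hF c hc) * (i : Equiv.Perm (Option (Pt F q))) := by
      rw [← e]; exact congrArg Subtype.val hcomm
    have hi0 : (i : Equiv.Perm (Option (Pt F q))) none = none := by
      rcases hp : (i : Equiv.Perm (Option (Pt F q))) none with _ | p
      · rfl
      · exfalso
        have := congrArg (fun f : Equiv.Perm (Option (Pt F q)) => f none) hcomm'
        simp only [Equiv.Perm.mul_apply, transPerm_none, hp, transPerm_some, Option.some.injEq] at this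
        have h3 := congrArg (fun p : Pt F q => p.1.1) this
        simp [transFun, q_ne_zero hF] at h3
        exact hc0 h3
    by_cases hi1 : i = 1
    · rw [hi1]; exact one_mem _
    obtain ⟨d, hd, -, ed⟩ := involution_none hF hq i.2 hi0 (congrArg Subtype.val hi)
      (fun h' => hi1 (Subtype.ext h'))
    exact ⟨d, hd, ed⟩

theorem zGrp_ne_bot : zGrp hF ≠ ⊥ := by
  intro h
  have h1 : (1 : F) ^ q = 1 := one_pow q
  have hm : (⟨transPerm hF (zPt hF 1 h1), transPerm_mem hF _⟩ : modelGroup hF) ∈ zGrp hF := ⟨1, h1, rfl⟩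
  rw [h, Subgroup.mem_bot] at hm
  have h2 : transPerm hF (zPt hF 1 h1) = transPerm hF (zeroPt hF) :=
    (congrArg Subtype.val hm).trans (transPerm_zero hF).symm
  exact one_ne_zero (congrArg (fun p : Pt F q => p.1.1) (transPerm_injective hF h2))

end Unital

/-- The centre of a subgroup is the meet with its centralizer. -/
theorem map_center_eq {G : Type*} [Group G] (P : Subgroup G) :
    (Subgroup.center P).map P.subtype = P ⊓ Subgroup.centralizer (P : Set G) := by
  ext g
  constructor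
  · rintro ⟨x, hx, rfl⟩
    exact ⟨x.2, Subgroup.mem_centralizer_iff.2 fun y hy =>
      congrArg Subtype.val (Subgroup.mem_center_iff.1 hx ⟨y, hy⟩)⟩
  · rintro ⟨hg, hc⟩
    exact ⟨⟨g, hg⟩, Subgroup.mem_center_iff.2 fun y =>
      Subtype.ext (Subgroup.mem_centralizer_iff.1 hc y y.2), rfl⟩

/-- An isomorphism carries the centre of a subgroup to the centre of its image. -/
theorem map_center_map {G G' : Type*} [Group G] [Group G'] (e : G ≃* G') (P : Subgroup G) :
    ((Subgroup.center P).map P.subtype).map e.toMonoidHom =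
      (Subgroup.center (P.map e.toMonoidHom)).map (P.map e.toMonoidHom).subtype := by
  rw [map_center_eq, map_center_eq]
  ext x
  obtain ⟨g, rfl⟩ := e.surjective x
  simp only [Subgroup.mem_map_equiv, Subgroup.mem_inf, Subgroup.mem_centralizer_iff, MulEquiv.symm_apply_apply,
    SetLike.mem_coe]
  refine and_congr_right fun _ => ⟨fun h y hy => ?_, fun h y hy => ?_⟩
  · have := congrArg e (h _ hy)
    simpa using this
  · have := congrArg e.symm (h (e y) (by simpa using hy))
    simpa using this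

/-- **The centre of a Sylow 2-subgroup of `PSU₃(2^a)` is the stabiliser of a binary action.** -/
theorem bin_center_psu {G : Type*} [Group G] [Finite G] {F : Type*} [Field F] [Fintype F] {a : ℕ}
    (ha : 2 ≤ a) (hF : Fintype.card F = (2 ^ a) ^ 2) (e : G ≃* Cfsg.PSU 3 F (2 ^ a)) (P : Sylow 2 G) :
    Bin ((Subgroup.center (P : Subgroup G)).map (P : Subgroup G).subtype) ∧
      (Subgroup.center (P : Subgroup G)).map (P : Subgroup G).subtype ≠ ⊥ := by
  haveI : Fact (Nat.Prime 2) := ⟨Nat.prime_two⟩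
  haveI : CharP F 2 := by
    obtain ⟨p, hp⟩ := CharP.exists F
    obtain ⟨n, hpr, hn⟩ := FiniteField.card F p
    rw [hF, ← pow_mul] at hn
    have : p = 2 := by
      have h1 : p ∣ 2 ^ (a * 2) := hn ▸ dvd_pow_self p n.ne_zero
      exact (Nat.prime_dvd_prime_iff_eq hpr Nat.prime_two).1 (hpr.dvd_of_dvd_pow h1)
    rwa [this] at hp
  have hq : 2 ^ a ≠ 2 := fun h => by
    have : (2 : ℕ) ^ 2 ≤ 2 ^ a := Nat.pow_le_pow_right two_pos ha
    omega
  obtain ⟨f⟩ := CfsgLib.Perm.RankOne.Unital.nonempty_modelGroup_equiv hF hq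
  obtain ⟨S, hS, hSZ⟩ := Unital.exists_sylow hF hq
  haveI : Finite (CfsgLib.Perm.RankOne.Unital.modelGroup hF) := Finite.of_equiv G (e.trans f.symm).toEquiv
  set ψ : G ≃* CfsgLib.Perm.RankOne.Unital.modelGroup hF := e.trans f.symm
  let P' : Sylow 2 (CfsgLib.Perm.RankOne.Unital.modelGroup hF) := P.mapSurjective (f := ψ.toMonoidHom) ψ.surjective
  obtain ⟨g, hg⟩ := MulAction.exists_smul_eq (CfsgLib.Perm.RankOne.Unital.modelGroup hF) P' S
  set φ := ψ.trans (MulAut.conj g)
  have hφ : (P : Subgroup G).map φ.toMonoidHom = (S : Subgroup _) := by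
    rw [← hg, show φ.toMonoidHom = (MulAut.conj g).toMonoidHom.comp ψ.toMonoidHom from rfl, ← Subgroup.map_map]
    rfl
  have hmap : ((Subgroup.center (P : Subgroup G)).map (P : Subgroup G).subtype).map φ.toMonoidHom =
      Unital.zGrp hF := by
    rw [map_center_map, hφ, hSZ]
  refine ⟨(CfsgLib.Lie.Suzuki.bin_map_iff φ).1 (hmap ▸ Unital.bin_zGrp hF hq), fun h => ?_⟩
  rw [h, Subgroup.map_bot] at hmap
  exact Unital.zGrp_ne_bot hF hq hmap.symm

end CfsgLib.Perm.Binary
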