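import Cfsg.Agent.Lib.Perm.RankOne.UnitalModel
import Cfsg.Agent.Lib.Known.UThreeEven.Model

/-!
# The torus and the Borel subgroup of the unital model of `PSU₃(q)`, `q` even (owner: helper17)

* `dil`: `(x, z) ↦ (l^(q+1) x, l z)`
* `swap_mem_closure`, `dil_mem_closure`: two opposite centres of root groups generate the swap and
  the dilations by the subfield
* `stab_one`, `involution_none`: the stabiliser of `none` and its involutions
-/

set_option autoImplicit false
set_option linter.all false

namespace CfsgLib.Perm.Binary.Unital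

open CfsgLib.Classical CfsgLib.Classical.Herm CfsgLib.Perm.RankOne.Unital

variable {F : Type*} [Field F] [Fintype F] [CharP F 2] {q : ℕ}

/-- The point `(c, 0)` of the root group centre. -/
def zPt (hF : Fintype.card F = q ^ 2) (c : F) (hc : c ^ q = c) : Pt F q :=
  ⟨(c, 0), by
    show c + c ^ q + (0 : F) ^ (q + 1) = 0
    rw [hc, zero_pow (Nat.succ_ne_zero q), add_zero]
    exact CharTwo.add_self_eq_zero c⟩

variable (hF : Fintype.card F = q ^ 2)

@[simp] theorem zPt_val (c : F) (hc : c ^ q = c) : (zPt hF c hc).1 = (c, 0) := rfl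

include hF

theorem norm_fixed (l : F) : (l ^ (q + 1)) ^ q = l ^ (q + 1) := by
  rw [pow_succ, mul_pow, pow_pow_self hF]
  ring

theorem dil_mem_pt (l : F) (p : Pt F q) :
    l ^ (q + 1) * p.1.1 + (l ^ (q + 1) * p.1.1) ^ q + (l * p.1.2) ^ (q + 1) = 0 := by
  rw [mul_pow (l ^ (q + 1)) p.1.1 q, norm_fixed hF l, mul_pow l p.1.2, ← mul_add, ← mul_add, p.2, mul_zero]

/-- The dilation of the finite points. -/
def dilPt (l : Fˣ) (p : Pt F q) : Pt F q :=
  ⟨((l : F) ^ (q + 1) * p.1.1, (l : F) * p.1.2), dil_mem_pt hF (l : F) p⟩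

@[simp] theorem dilPt_val (l : Fˣ) (p : Pt F q) :
    (dilPt hF l p).1 = ((l : F) ^ (q + 1) * p.1.1, (l : F) * p.1.2) := rfl

theorem dilPt_dilPt (l m : Fˣ) (p : Pt F q) : dilPt hF l (dilPt hF m p) = dilPt hF (l * m) p := by
  apply Subtype.ext
  simp only [dilPt_val, Units.val_mul, mul_pow, mul_assoc]

theorem dilPt_one (p : Pt F q) : dilPt hF 1 p = p := by
  apply Subtype.ext
  simp

/-- The dilation `(x, z) ↦ (l^(q+1) x, l z)`, fixing `none`. -/
def dil : Fˣ →* Equiv.Perm (Option (Pt F q)) where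
  toFun l := Equiv.optionCongr
    { toFun := dilPt hF l
      invFun := dilPt hF l⁻¹
      left_inv := fun p => by rw [dilPt_dilPt, inv_mul_cancel, dilPt_one]
      right_inv := fun p => by rw [dilPt_dilPt, mul_inv_cancel, dilPt_one] }
  map_one' := by
    ext1 p
    rcases p with _ | p
    · rfl
    · exact congrArg some (dilPt_one hF p)
  map_mul' l m := by
    ext1 p
    rcases p with _ | p
    · rfl
    · exact congrArg some (dilPt_dilPt hF l m p).symm

@[simp] theorem dil_none (l : Fˣ) : dil hF l none = none := rfl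

@[simp] theorem dil_some (l : Fˣ) (p : Pt F q) : dil hF l (some p) = some (dilPt hF l p) := rfl

theorem dilPt_zeroPt (l : Fˣ) : dilPt hF l (zeroPt hF) = zeroPt hF := by
  apply Subtype.ext
  simp [zeroPt]

/-- The product of two translations. -/
theorem transPerm_mul (s r : Pt F q) :
    transPerm hF s * transPerm hF r = transPerm hF (transFun hF s r) :=
  CfsgLib.Known.UThreeEven.transPerm_mul hF s r

theorem transFun_zero_right (s : Pt F q) : transFun hF s (zeroPt hF) = s := by
  apply Subtype.ext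
  simp [transFun, zeroPt]

theorem transFun_zero_left (s : Pt F q) : transFun hF (zeroPt hF) s = s := by
  apply Subtype.ext
  simp [transFun, zeroPt, q_ne_zero hF]

theorem transPerm_zero : transPerm hF (zeroPt hF) = 1 := by
  ext1 p
  rcases p with _ | p
  · rfl
  · rw [transPerm_some, transFun_zero_left, Equiv.Perm.one_apply]

theorem transPerm_apply_zero (s : Pt F q) : transPerm hF s (some (zeroPt hF)) = some s := by
  rw [transPerm_some, transFun_zero_right]

theorem transPerm_injective : Function.Injective (transPerm hF : Pt F q → _) := fun s r h => by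
  have := congrArg (fun e : Equiv.Perm (Option (Pt F q)) => e (some (zeroPt hF))) h
  simpa only [transPerm_apply_zero, Option.some.injEq] using this

/-- The torus normalises the root group. -/
theorem dil_mul_trans (l : Fˣ) (s : Pt F q) :
    dil hF l * transPerm hF s = transPerm hF (dilPt hF l s) * dil hF l := by
  ext1 p
  rcases p with _ | p
  · rfl
  · simp only [Equiv.Perm.mul_apply, transPerm_some, dil_some]
    refine congrArg some (Subtype.ext (Prod.ext ?_ ?_))
    · simp only [transFun, dilPt_val]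
      rw [mul_pow, pow_succ]
      ring
    · simp only [transFun, dilPt_val]
      ring

theorem dil_conj_trans (l : Fˣ) (s : Pt F q) :
    dil hF l * transPerm hF s * (dil hF l)⁻¹ = transPerm hF (dilPt hF l s) := by
  rw [dil_mul_trans, mul_inv_cancel_right]

/-- There is a point with any given second coordinate. -/
theorem exists_pt_snd (z : F) : ∃ p : Pt F q, p.1.2 = z := by
  obtain ⟨x, hx⟩ := CfsgLib.Known.UThreeEven.exists_pt hF z
  exact ⟨⟨(x, z), hx⟩, rfl⟩

theorem dil_injective : Function.Injective (dil hF : Fˣ → _) := fun l m h => by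
  obtain ⟨p, hp⟩ := exists_pt_snd hF 1
  have h1 := congrArg (fun e : Equiv.Perm (Option (Pt F q)) => e (some p)) h
  simp only [dil_some, Option.some.injEq] at h1
  have h2 := congrArg (fun p : Pt F q => p.1.2) h1
  simp only [dilPt_val, hp, mul_one] at h2
  exact Units.ext h2

/-! ### The centres of the two root groups generate the swap -/

/-- `z_c (t z_(1/c) t) z_c` is the swap followed by the dilation by `c`. -/
theorem braid {c : Fˣ} (hc : (c : F) ^ q = c) (hc' : ((c⁻¹ : Fˣ) : F) ^ q = ((c⁻¹ : Fˣ) : F)) :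
    transPerm hF (zPt hF (c : F) hc) *
        (swapPerm hF * transPerm hF (zPt hF ((c⁻¹ : Fˣ) : F) hc') * swapPerm hF) *
        transPerm hF (zPt hF (c : F) hc) =
      dil hF c * swapPerm hF := by
  set A := transIso hF (zPt hF (c : F) hc) with hA
  set B := transIso hF (zPt hF ((c⁻¹ : Fˣ) : F) hc') with hB
  set P := A * (swapIso hF * B * swapIso hF) * A with hP
  have hPv : ∀ v : Fin 3 → F,
      ((P : HU (form hF)) : (Fin 3 → F) ≃ₗ[F] (Fin 3 → F)) v = ![(c : F) * v 2, v 1, v 0 / (c : F)] := by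
    intro v
    show ((A : HU (form hF)) : (Fin 3 → F) ≃ₗ[F] (Fin 3 → F))
      (((swapIso hF : HU (form hF)) : (Fin 3 → F) ≃ₗ[F] (Fin 3 → F))
        (((B : HU (form hF)) : (Fin 3 → F) ≃ₗ[F] (Fin 3 → F))
          (((swapIso hF : HU (form hF)) : (Fin 3 → F) ≃ₗ[F] (Fin 3 → F))
            (((A : HU (form hF)) : (Fin 3 → F) ≃ₗ[F] (Fin 3 → F)) v)))) = _
    have hi : ((c⁻¹ : Fˣ) : F) * (c : F) = 1 := Units.inv_mul c
    simp only [hA, hB, transIso_apply, swapIso_apply, zPt_val, zero_pow (q_ne_zero hF),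
      Matrix.cons_val_zero, Matrix.cons_val_one, Matrix.cons_val_two, Matrix.head_cons, Matrix.tail_cons,
      zero_mul, add_zero, div_eq_mul_inv, ← Units.val_inv_eq_inv_val]
    funext i
    have hcc : (c : F) * (c : F)⁻¹ = 1 := mul_inv_cancel₀ c.ne_zero
    fin_cases i <;> simp <;>
      first
        | linear_combination (v 2) * hcc + (v 2) * two_eq_zero (F := F)
        | linear_combination (v 0 + (c : F) * v 2) * hcc + (v 0 + (c : F) * v 2) * two_eq_zero (F := F)
  have hmap : actHom hF P = transPerm hF (zPt hF (c : F) hc) *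
      (swapPerm hF * transPerm hF (zPt hF ((c⁻¹ : Fˣ) : F) hc') * swapPerm hF) *
      transPerm hF (zPt hF (c : F) hc) := by
    simp only [hP, hA, hB, map_mul, actHom_trans, actHom_swap]
  rw [← hmap]
  ext1 p
  rw [Equiv.Perm.mul_apply, swapPerm_apply]
  refine actHom_eq_of hF ?_
  have hc0 : (c : F) ≠ 0 := c.ne_zero
  rcases p with _ | p
  · refine smul_toPoint hF (inv_ne_zero hc0) ?_
    rw [hPv]
    funext i
    fin_cases i <;> simp [vec, swapFun, dilPt_zeroPt, zeroPt]
  · by_cases h : p.1.1 = 0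
    · rw [swapFun_zero hF h, dil_none]
      refine smul_toPoint hF hc0 ?_
      rw [hPv]
      funext i
      fin_cases i <;> simp [vec, h, snd_eq_zero hF h]
    · obtain ⟨r, hr, e⟩ := swapFun_some hF h
      rw [e, dil_some]
      refine smul_toPoint hF (div_ne_zero h hc0) ?_
      rw [hPv]
      funext i
      fin_cases i <;> simp [vec, hr, h, dilPt, pow_succ, hc] <;> field_simp

/-- A subgroup containing both centres contains the swap and the subfield dilations. -/
theorem swap_dil_mem {K : Subgroup (Equiv.Perm (Option (Pt F q)))}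
    (h : ∀ (c : F) (hc : c ^ q = c), transPerm hF (zPt hF c hc) ∈ K ∧
      swapPerm hF * transPerm hF (zPt hF c hc) * swapPerm hF ∈ K) :
    swapPerm hF ∈ K ∧ ∀ l : Fˣ, (l : F) ^ q = (l : F) → dil hF l ∈ K := by
  have hb : ∀ l : Fˣ, (l : F) ^ q = (l : F) → dil hF l * swapPerm hF ∈ K := by
    intro l hl
    have hl' : ((l⁻¹ : Fˣ) : F) ^ q = ((l⁻¹ : Fˣ) : F) := by
      rw [Units.val_inv_eq_inv_val, inv_pow, hl]
    rw [← braid hF hl hl']
    exact mul_mem (mul_mem (h _ hl).1 (h _ hl').2) (h _ hl).1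
  have hs : swapPerm hF ∈ K := by
    have := hb 1 (by simp)
    rwa [map_one, one_mul] at this
  refine ⟨hs, fun l hl => ?_⟩
  have := mul_mem (hb l hl) (inv_mem hs)
  rwa [mul_inv_cancel_right] at this

theorem swap_mem_closure {K : Subgroup (Equiv.Perm (Option (Pt F q)))}
    (h : ∀ (c : F) (hc : c ^ q = c), transPerm hF (zPt hF c hc) ∈ K ∧
      swapPerm hF * transPerm hF (zPt hF c hc) * swapPerm hF ∈ K) :
    swapPerm hF ∈ K := (swap_dil_mem hF h).1

theorem dil_mem_closure {K : Subgroup (Equiv.Perm (Option (Pt F q)))}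
    (h : ∀ (c : F) (hc : c ^ q = c), transPerm hF (zPt hF c hc) ∈ K ∧
      swapPerm hF * transPerm hF (zPt hF c hc) * swapPerm hF ∈ K) (l : Fˣ) (hl : (l : F) ^ q = (l : F)) :
    dil hF l ∈ K := (swap_dil_mem hF h).2 l hl

/-! ### The torus inside the model -/

variable (hq : q ≠ 2)

omit hF in
/-- The linear map `diag (a, b, d)`. -/
def diagThree (a b d : F) : (Fin 3 → F) →ₗ[F] (Fin 3 → F) where
  toFun v := ![a * v 0, b * v 1, d * v 2]
  map_add' v w := by
    funext i
    fin_cases i <;> simp <;> ring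
  map_smul' k v := by
    funext i
    fin_cases i <;> simp <;> ring

include hq

/-- `a^(2q-1)` dilates inside the model. -/
theorem dil_mem_model (a : Fˣ) : dil hF (a ^ (2 * q - 1)) ∈ modelGroup hF := by
  have hq1 : 1 ≤ q := Nat.one_le_iff_ne_zero.2 (q_ne_zero hF)
  set A : F := (a : F)
  have hA : A ≠ 0 := a.ne_zero
  have hqq : (A ^ q) ^ q = A := pow_pow_self hF A
  have hAq : A ^ q ≠ 0 := pow_ne_zero _ hA
  set b : F := A ^ q / A
  set d : F := (A ^ q)⁻¹
  have hb : b ^ q * b = 1 := by
    simp only [b, div_pow, hqq]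
    field_simp
  have hd : A ^ q * d = 1 := mul_inv_cancel₀ hAq
  have hd' : d ^ q * A = 1 := by
    simp only [d, inv_pow, hqq]
    exact inv_mul_cancel₀ hA
  let f : HU (form hF) := (isHerm_form hF).ofPreserves (diagThree A b d) fun v w => by
    simp only [revB_three, diagThree, LinearMap.coe_mk, AddHom.coe_mk, powHom_apply,
      Matrix.cons_val_zero, Matrix.cons_val_one, Matrix.cons_val_two, Matrix.head_cons, Matrix.tail_cons,
      mul_pow]
    linear_combination (v 0 ^ q * w 2) * hd + (v 1 ^ q * w 1) * hb + (v 2 ^ q * w 0) * hd'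
  have hf : f ∈ HSU (form hF) := by
    rw [MonoidHom.mem_ker]
    refine det_ofPreserves (isHerm_form hF) _ _ ?_
    rw [← LinearMap.det_toMatrix', Matrix.det_fin_three]
    simp [LinearMap.toMatrix'_apply, diagThree, b, d]
    field_simp
  rw [← range_actHom hF hq]
  refine ⟨⟨f, hf⟩, ?_⟩
  ext1 p
  refine actHom_eq_of hF ?_
  rcases p with _ | p
  · rw [dil_none]
    refine smul_toPoint hF hA ?_
    show diagThree A b d (vec none) = _
    funext i
    fin_cases i <;> simp [diagThree, vec]
  · refine smul_toPoint hF (inv_ne_zero hAq) ?_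
    show diagThree A b d (vec (some p)) = _
    have hl : ((a ^ (2 * q - 1) : Fˣ) : F) = A ^ q * A ^ q / A := by
      rw [Units.val_pow_eq_pow_val, eq_div_iff hA, ← pow_succ, ← _root_.pow_add, show 2 * q - 1 + 1 = q + q by omega]
    have hl1 : ((a ^ (2 * q - 1) : Fˣ) : F) ^ (q + 1) = A ^ q * A := by
      rw [hl, div_pow, mul_pow, pow_succ (A ^ q), hqq, pow_succ A]
      field_simp
    rw [dil_some]
    generalize a ^ (2 * q - 1) = l at hl hl1 ⊢
    simp only [vec, dilPt_val]
    rw [hl1, hl]
    funext i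
    fin_cases i <;> simp only [diagThree, b, d, LinearMap.coe_mk,
      AddHom.coe_mk, Pi.smul_apply, smul_eq_mul, Fin.isValue, Fin.zero_eta, Fin.mk_one, Fin.reduceFinMk,
      Matrix.cons_val_zero, Matrix.cons_val_one, Matrix.cons_val_two, Matrix.head_cons, Matrix.tail_cons] <;>
      field_simp

/-- The model has a dilation outside the subfield. -/
theorem exists_dil_mem : ∃ l : Fˣ, (l : F) ^ q ≠ (l : F) ∧ dil hF l ∈ modelGroup hF := by
  have hq1 : 1 ≤ q := Nat.one_le_iff_ne_zero.2 (q_ne_zero hF)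
  have hq2 : 2 ≤ q := two_le_of_card_sq hF
  obtain ⟨g, hg⟩ := IsCyclic.exists_generator (α := Fˣ)
  refine ⟨g ^ (2 * q - 1), fun h => ?_, dil_mem_model hF hq g⟩
  have hord : orderOf g = q ^ 2 - 1 := by
    rw [orderOf_eq_card_of_forall_mem_zpowers hg, Nat.card_units, Nat.card_eq_fintype_card, hF]
  have h' : g ^ ((2 * q - 1) * q) = g ^ (2 * q - 1) := by
    rw [pow_mul]; exact Units.ext (by simpa using h)
  have h1 : g ^ ((2 * q - 1) * (q - 1)) = 1 := by
    refine mul_right_cancel (b := g ^ (2 * q - 1)) ?_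
    rw [← _root_.pow_add, one_mul]
    calc g ^ ((2 * q - 1) * (q - 1) + (2 * q - 1)) = g ^ ((2 * q - 1) * q) := by
          congr 1
          rw [← Nat.mul_succ]; congr 1; omega
      _ = _ := h'
  have h2 := orderOf_dvd_of_pow_eq_one h1
  rw [hord, show q ^ 2 - 1 = (q + 1) * (q - 1) by rw [← Nat.sq_sub_sq, one_pow]] at h2
  have h3 : q + 1 ∣ 2 * q - 1 := Nat.dvd_of_mul_dvd_mul_right (by omega) h2
  obtain ⟨k, hk⟩ := h3
  rcases k with _ | _ | k
  · omega
  · omega
  · rw [Nat.mul_succ, Nat.mul_succ] at hk; omega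

/-- An element of the model fixing two points is a dilation. -/
theorem stab_two {g : Equiv.Perm (Option (Pt F q))} (hg : g ∈ modelGroup hF) (h0 : g none = none)
    (h1 : g (some (zeroPt hF)) = some (zeroPt hF)) : ∃ l : Fˣ, g = dil hF l := by
  rw [← range_actHom hF hq] at hg
  obtain ⟨h, rfl⟩ := hg
  rw [← CfsgLib.Known.UThreeEven.actU_coe hF h] at h0 h1 ⊢
  obtain ⟨a, b, d, hda, hbb, hv⟩ := CfsgLib.Known.UThreeEven.fix_diag hF h0 h1
  have hb0 : b ≠ 0 := fun e => by
    rw [e, zero_pow (Nat.succ_ne_zero q)] at hbb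
    exact zero_ne_one hbb
  have hd0 : d ≠ 0 := fun e => by
    rw [e, zero_pow (q_ne_zero hF), zero_mul] at hda
    exact zero_ne_one hda
  refine ⟨Units.mk0 (b / d) (div_ne_zero hb0 hd0), ?_⟩
  have hl : (b / d) ^ (q + 1) = a / d := by
    rw [div_pow, hbb, pow_succ, eq_div_iff hd0]
    have : d ^ q ≠ 0 := pow_ne_zero _ hd0
    field_simp
    linear_combination -hda
  ext1 p
  rcases p with _ | p
  · rw [h0, dil_none]
  · refine CfsgLib.Known.UThreeEven.actU_eq hF d hd0 ?_
    rw [hv]
    funext i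
    fin_cases i <;> simp [vec, dilPt, hl] <;> field_simp

/-- The stabiliser of `none` in the model. -/
theorem stab_one {g : Equiv.Perm (Option (Pt F q))} (hg : g ∈ modelGroup hF) (h0 : g none = none) :
    ∃ (s : Pt F q) (l : Fˣ), g = transPerm hF s * dil hF l := by
  obtain ⟨s, hs⟩ : ∃ s, g (some (zeroPt hF)) = some s := by
    rcases h : g (some (zeroPt hF)) with _ | s
    · exact absurd (g.injective (h.trans h0.symm)) (by simp)
    · exact ⟨s, rfl⟩
  obtain ⟨l, hl⟩ := stab_two hF hq (g := (transPerm hF s)⁻¹ * g) (mul_mem (inv_mem (transPerm_mem hF s)) hg)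
    (by rw [Equiv.Perm.mul_apply, h0, Equiv.Perm.inv_eq_iff_eq, transPerm_none])
    (by rw [Equiv.Perm.mul_apply, hs, Equiv.Perm.inv_eq_iff_eq, transPerm_apply_zero])
  exact ⟨s, l, by rw [← hl, mul_inv_cancel_left]⟩

/-- An involution of the model fixing `none` is a translation by a centre point. -/
theorem involution_none {g : Equiv.Perm (Option (Pt F q))} (hg : g ∈ modelGroup hF) (h0 : g none = none)
    (h2 : g * g = 1) (h1 : g ≠ 1) :
    ∃ (c : F) (hc : c ^ q = c), c ≠ 0 ∧ g = transPerm hF (zPt hF c hc) := by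
  obtain ⟨s, l, rfl⟩ := stab_one hF hq hg h0
  have e : transPerm hF (transFun hF s (dilPt hF l s)) * dil hF (l * l) = 1 := by
    rw [← transPerm_mul, map_mul, ← h2, mul_assoc (transPerm hF s) (dil hF l), ← mul_assoc (dil hF l),
      dil_mul_trans]
    simp only [mul_assoc]
  have e0 : transFun hF s (dilPt hF l s) = zeroPt hF := by
    have := congrArg (fun e : Equiv.Perm (Option (Pt F q)) => e (some (zeroPt hF))) e
    simpa only [Equiv.Perm.mul_apply, dil_some, dilPt_zeroPt, transPerm_apply_zero, Equiv.Perm.one_apply,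
      Option.some.injEq] using this
  rw [e0, transPerm_zero, one_mul] at e
  have hl : l * l = 1 := dil_injective hF (by rw [e, map_one])
  have hl1 : l = 1 := Units.ext (CharTwo.sq_inj.1 (by
    rw [pow_two, pow_two, Units.val_one, one_mul, ← Units.val_mul, hl, Units.val_one]))
  subst hl1
  rw [map_one, mul_one] at h1 ⊢
  rw [dilPt_one] at e0
  have hz : s.1.2 = 0 := by
    have := congrArg (fun p : Pt F q => p.1.1) e0
    simp only [transFun, zeroPt, CharTwo.add_self_eq_zero, zero_add, mul_eq_zero] at this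
    rcases this with h | h
    · exact eq_zero_of_pow_eq_zero h
    · exact h
  have hc : s.1.1 ^ q = s.1.1 := by
    have := s.2
    rw [hz, zero_pow (Nat.succ_ne_zero q), add_zero] at this
    linear_combination this - s.1.1 * two_eq_zero (F := F)
  have hs : s = zPt hF s.1.1 hc := Subtype.ext (Prod.ext rfl hz)
  refine ⟨s.1.1, hc, fun hx => h1 ?_, congrArg _ hs⟩
  rw [eq_zeroPt hF hx, transPerm_zero]

end CfsgLib.Perm.Binary.Unital
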